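import Cfsg.Agent.Lib.Chev.F4Graph.Torus
import Cfsg.Agent.Lib.Chev.SylowTorus.Types

/-!
Commuting elements of type F4 in terms of the orders of the field cardinality.
-/

set_option autoImplicit false
set_option maxHeartbeats 1000000

namespace CfsgLib.Chev.F4Graph

open Cfsg.Lie Matrix Polynomial CfsgLib.Chev CfsgLib.Chev.Cert CfsgLib.Chev.GTorus
  CfsgLib.Chev.SylowTorus

section Number

variable {q r d : ℕ} [Fact r.Prime]

theorem ne_zero_of_orderOf (hd : orderOf (q : ZMod r) = d) (hd0 : 0 < d) : (q : ZMod r) ≠ 0 :=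
  fun h => by
  rw [h, orderOf_eq_zero_iff'.2 fun k hk => by simp [hk.ne']] at hd
  omega

theorem lt_of_orderOf (hd : orderOf (q : ZMod r) = d) (hd0 : 0 < d) : d < r := by
  have h1 := ZMod.orderOf_dvd_card_sub_one (ne_zero_of_orderOf hd hd0)
  rw [hd] at h1
  have := Nat.le_of_dvd (by have := (Fact.out : r.Prime).two_le; omega) h1
  have := (Fact.out : r.Prime).two_le
  omega

theorem five_le_of_orderOf (hd : orderOf (q : ZMod r) = d) (hd3 : 3 ≤ d) : 5 ≤ r := by
  have h1 := lt_of_orderOf hd (by omega)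
  have hr : r.Prime := Fact.out
  by_contra h
  obtain rfl : r = 4 := by omega
  norm_num at hr

theorem isRoot_of_orderOf (hd : orderOf (q : ZMod r) = d) (hd0 : 0 < d) :
    (cyclotomic d (ZMod r)).IsRoot (q : ZMod r) :=
  (hd ▸ IsPrimitiveRoot.orderOf _ : IsPrimitiveRoot (q : ZMod r) d).isRoot_cyclotomic hd0

end Number

section Eigen

variable {l s : ℕ} [Fact s.Prime] {M : Matrix (Fin l) (Fin l) ℤ}

theorem exists_eigen_iff {a : ZMod s} :
    (∃ c : Fin l → ZMod s, c ≠ 0 ∧ c ᵥ* M.map (Int.castRingHom (ZMod s)) = a • c) ↔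
      (M.charpoly.map (Int.castRingHom (ZMod s))).IsRoot a := by
  rw [← Matrix.charpoly_map, IsRoot, Matrix.eval_charpoly, ← Matrix.exists_vecMul_eq_zero_iff]
  refine exists_congr fun c => and_congr_right fun _ => ?_
  rw [Matrix.vecMul_sub, sub_eq_zero, eq_comm]
  refine Eq.congr_left ?_
  funext j
  simp [Matrix.scalar_apply, Matrix.vecMul_diagonal, mul_comm]

end Eigen

variable {F : Type*} [Field F] [Fintype F]

theorem exists_mem_orderOf {r : ℕ} (hr : r.Prime) (hrG : r ∣ Nat.card ↥(chevF4.group F)) :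
    ∃ x ∈ chevF4.group F, orderOf x = r := by
  have : Fact r.Prime := ⟨hr⟩
  obtain ⟨x, hx⟩ := exists_prime_orderOf_dvd_card' r hrG
  exact ⟨x, x.2, by rw [Subgroup.orderOf_coe, hx]⟩

/-- The orders eight and twelve: regularity. -/
theorem large_torus {r d : ℕ} (hr : r.Prime) (hd : orderOf (Fintype.card F : ZMod r) = d)
    (hd' : d = 8 ∨ d = 12) {x₀ : GL chevF4.Idx F} (hx₀ : x₀ ∈ chevF4.group F)
    (ho : orderOf x₀ = r) :
    (∀ s : ℕ, s.Prime → orderOf (Fintype.card F : ZMod s) = d →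
      ∃ a ∈ chevF4.group F, orderOf a = s ∧ Commute a x₀) ∧
    (∀ a ∈ chevF4.group F, ∀ s : ℕ, s.Prime → orderOf a = s → Commute a x₀ →
      (Fintype.card F : ZMod s) ^ d = 1 ∧ (cyclotomic d (ZMod s)).IsRoot (Fintype.card F : ZMod s)) := by
  have : Fact r.Prime := ⟨hr⟩
  have hd0 : 0 < d := by omega
  have hlm : d.totient = tabF4.l := by rcases hd' with rfl | rfl <;> rfl
  have hdr := lt_of_orderOf hd hd0
  have hlr : tabF4.l + 1 < r := by rw [show tabF4.l = 4 from rfl]; omega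
  have h5 : 5 ≤ r := by rw [show tabF4.l = 4 from rfl] at hlr; omega
  have hmin : ∀ (M : Matrix (Fin tabF4.l) (Fin tabF4.l) ℤ), IsWMat M →
      ∀ x : Fin tabF4.l → ZMod r, x ≠ 0 →
      x ᵥ* M.map (Int.castRingHom (ZMod r)) = (Fintype.card F : ZMod r) • x →
      minpoly ℚ (rat M) = cyclotomic d ℚ := fun M hM x hx hxM => by
    obtain ⟨N, hN, hMN⟩ := hM.finite_order
    exact minpoly_eq hN hMN hlr hd0 hlm hd hx hxM
  obtain ⟨M, x, hM, hxLI, hxM, h1, h2⟩ := frob_torus hr h5 hd hd0 (fun _ : Fin 1 => x₀)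
    (fun _ => hx₀) (fun _ => ho) (fun _ _ => Commute.refl _)
    (fun e he i => by
      rw [Fin.fin_one_eq_zero i, ← ho]
      exact orderOf_dvd_of_pow_eq_one (by simpa using he))
    (fun M x hM hxLI hxM s hs => by
      obtain ⟨n, hn⟩ := hM.exists_acts (ZMod 2)
      refine ⟨0, dotProduct_ne_zero certF4 hd0 hlm hn (hmin M hM _ (hxLI.ne_zero 0) (hxM 0))
        (hxLI.ne_zero 0) (hxM 0) (matOf _ pF4) 8 bF4 ?_ hs⟩
      rw [detF4, show tabF4.l = 4 from rfl]
      have : (9 : ℤ) ≤ r := by exact_mod_cast (show 9 ≤ r by omega)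
      push_cast
      nlinarith)
  have hm := hmin M hM _ (hxLI.ne_zero 0) (hxM 0)
  have hc := charpoly_eq hd0 hlm hm
  refine ⟨fun s hs hsd => ?_, fun a ha s hs has hac => ?_⟩
  · have : Fact s.Prime := ⟨hs⟩
    obtain ⟨a, ha, h3, h4⟩ := h1 s hs (by rw [← hsd, pow_orderOf_eq_one])
      (exists_eigen_iff.2 (by rw [hc, map_cyclotomic]; exact isRoot_of_orderOf hsd hd0))
    exact ⟨a, ha, h3, h4 0⟩
  · have : Fact s.Prime := ⟨hs⟩
    obtain ⟨h3, h4⟩ := h2 a ha s hs has (fun _ => hac) fun Mz hMz hcom hfix => by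
      obtain ⟨j, hj, hjM⟩ := hMz.finite_order
      exact eq_one_of_fix hlr hd0 hlm hm (hxLI.ne_zero 0) hcom hj hjM (hfix 0)
    refine ⟨h3, ?_⟩
    have h5 := exists_eigen_iff.1 h4
    rwa [hc, map_cyclotomic] at h5

theorem not_isRoot_twelve : ¬ ∃ a : ZMod 3, (cyclotomic 12 (ZMod 3)).IsRoot a := by
  rintro ⟨a, ha⟩
  have : NeZero ((4 : ℕ) : ZMod 3) := ⟨(by decide : ¬ ((4 : ℕ) : ZMod 3) = 0)⟩
  have : Fact (Nat.Prime 3) := ⟨Nat.prime_three⟩
  rw [show 12 = 3 ^ 1 * 4 by norm_num, isRoot_cyclotomic_prime_pow_mul_iff_of_charP] at ha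
  have h1 := ha.eq_orderOf
  have h2 : orderOf a ∣ 3 - 1 := ZMod.orderOf_dvd_card_sub_one (ha.ne_zero (by norm_num))
  rw [← h1] at h2
  norm_num at h2

/-- The orders eight and twelve are only adjacent to themselves. -/
theorem large_eq {r s d : ℕ} (hr : r.Prime) (hs : s.Prime)
    (h2 : (Fintype.card F : ZMod 2) = 0) (hd : orderOf (Fintype.card F : ZMod r) = d)
    (hd' : d = 8 ∨ d = 12) {x a : GL chevF4.Idx F} (hx : x ∈ chevF4.group F)
    (ha : a ∈ chevF4.group F) (hxo : orderOf x = r) (hao : orderOf a = s) (hc : Commute a x) :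
    s ≠ 2 ∧ orderOf (Fintype.card F : ZMod s) = d := by
  obtain ⟨h3, h4⟩ := (large_torus hr hd hd' hx hxo).2 a ha s hs hao hc
  have : Fact s.Prime := ⟨hs⟩
  have hs2 : s ≠ 2 := by
    rintro rfl
    rw [h2, zero_pow (by omega)] at h3
    exact zero_ne_one h3
  refine ⟨hs2, ?_⟩
  have hsd : ¬ s ∣ d := by
    intro h
    rcases hd' with rfl | rfl
    · have : s ∣ 2 ^ 3 := h
      exact hs2 ((Nat.prime_dvd_prime_iff_eq hs Nat.prime_two).1 (hs.dvd_of_dvd_pow this))
    · have : s ∣ 2 ^ 2 * 3 := h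
      rcases hs.dvd_mul.1 this with h | h
      · exact hs2 ((Nat.prime_dvd_prime_iff_eq hs Nat.prime_two).1 (hs.dvd_of_dvd_pow h))
      · obtain rfl := (Nat.prime_dvd_prime_iff_eq hs Nat.prime_three).1 h
        exact not_isRoot_twelve ⟨_, h4⟩
  have : NeZero (d : ZMod s) := ⟨fun e => hsd ((ZMod.natCast_eq_zero_iff _ _).1 e)⟩
  exact (isRoot_cyclotomic_iff.1 h4).eq_orderOf.symm

theorem exists_commute_large {r s d : ℕ} (hr : r.Prime) (hs : s.Prime)
    (hrG : r ∣ Nat.card ↥(chevF4.group F)) (hd : orderOf (Fintype.card F : ZMod r) = d)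
    (hsd : orderOf (Fintype.card F : ZMod s) = d) (hd' : d = 8 ∨ d = 12) :
    ∃ x ∈ chevF4.group F, ∃ y ∈ chevF4.group F, orderOf x = r ∧ orderOf y = s ∧ Commute x y := by
  obtain ⟨x, hx, hxo⟩ := exists_mem_orderOf hr hrG
  obtain ⟨a, ha, hao, hac⟩ := (large_torus hr hd hd' hx hxo).1 s hs hsd
  exact ⟨x, hx, a, ha, hxo, hao, hac.symm⟩

theorem cyclotomic_small {d : ℕ} (hd : d = 3 ∨ d = 4 ∨ d = 6) :
    ∃ c : ℤ, c ^ 2 < 4 ∧ cyclotomic d ℤ = Polynomial.X ^ 2 + Polynomial.C c * Polynomial.X + 1 := by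
  rcases hd with rfl | rfl | rfl
  · exact ⟨1, by norm_num, by rw [cyclotomic_three]; simp⟩
  · exact ⟨0, by norm_num, by rw [cyclotomic_four]; simp⟩
  · exact ⟨-1, by norm_num, by rw [cyclotomic_six]; simp [sub_eq_add_neg]⟩

/-- The orders three, four and six: the shape of the Weyl element. -/
theorem small_charpoly {r d : ℕ} [Fact r.Prime] (h5 : 5 ≤ r) (hd' : d = 3 ∨ d = 4 ∨ d = 6)
    {M : Matrix (Fin tabF4.l) (Fin tabF4.l) ℤ} (hM : IsWMat M) {a : ZMod r} (ha : orderOf a = d)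
    {x : Fin 2 → Fin tabF4.l → ZMod r} (hx : LinearIndependent (ZMod r) x)
    (hxM : ∀ i, x i ᵥ* M.map (Int.castRingHom (ZMod r)) = a • x i) :
    M.charpoly = cyclotomic d ℤ ^ 2 ∧ aeval M (cyclotomic d ℤ) = 0 ∧
      ∀ z : Fin tabF4.l → ZMod r, z ᵥ* M.map (Int.castRingHom (ZMod r)) = a • z →
        ∃ cs : Fin 2 → ZMod r, z = ∑ i, cs i • x i := by
  classical
  obtain ⟨N, hN, hMN⟩ := hM.finite_order
  have htot : d.totient = 2 := by rcases hd' with rfl | rfl | rfl <;> rfl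
  have ha0 : a ≠ 0 := fun h => by
    rw [h, orderOf_eq_zero_iff'.2 fun k hk => by simp [hk.ne']] at ha
    omega
  obtain ⟨k, R, hR, hRm, -, hdeg, hle⟩ := exists_mult hN hMN ha0
    (wild_of_totient ha0 (by rw [ha, htot, show tabF4.l = 4 from rfl]; omega))
  rw [ha] at hR hdeg
  set E := {z : Fin tabF4.l → ZMod r // z ᵥ* M.map (Int.castRingHom (ZMod r)) = a • z}
  let ψ : (Fin 2 → ZMod r) → E := fun cs => ⟨∑ i, cs i • x i, by
    simp only [Matrix.sum_vecMul, Finset.smul_sum, Matrix.smul_vecMul, hxM, smul_comm a]⟩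
  have hψ : Function.Injective ψ := fun u v e =>
    (Fintype.linearIndependent_iff'ₛ.1 hx) (congrArg Subtype.val e)
  have h1 : r ^ 2 ≤ Nat.card E := by
    have := Nat.card_le_card_of_injective ψ hψ
    rwa [Nat.card_fun, Nat.card_fin, Nat.card_zmod] at this
  have h2 : Nat.card E ≤ r ^ (M.charpoly.map (Int.castRingHom (ZMod r))).rootMultiplicity a :=
    card_eigen_le a
  have h3 : 2 ≤ (M.charpoly.map (Int.castRingHom (ZMod r))).rootMultiplicity a :=
    (Nat.pow_le_pow_iff_right (Fact.out : r.Prime).one_lt).1 (h1.trans h2)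
  rw [htot, show tabF4.l = 4 from rfl] at hdeg
  have hk : k = 2 := by omega
  subst hk
  obtain rfl := hRm.natDegree_eq_zero.1 (by omega)
  rw [mul_one] at hR
  refine ⟨hR, ?_, fun z hz => ?_⟩
  · have := aeval_radical hN hMN (d := d) (k := 2) (R := 1) (by norm_num) (by rw [mul_one]; exact hR)
    rwa [mul_one] at this
  · have h4 : Nat.card E ≤ r ^ 2 := h2.trans (Nat.pow_le_pow_right (Fact.out : r.Prime).pos hle)
    have hb : Function.Bijective ψ := (Nat.bijective_iff_injective_and_card ψ).2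
      ⟨hψ, by rw [Nat.card_fun, Nat.card_fin, Nat.card_zmod]; omega⟩
    obtain ⟨cs, hcs⟩ := hb.2 ⟨z, hz⟩
    exact ⟨cs, (congrArg Subtype.val hcs).symm⟩

/-- No root vanishes on the eigen plane. -/
theorem small_regular {r d : ℕ} [Fact r.Prime] (h5 : 5 ≤ r) (hd' : d = 3 ∨ d = 4 ∨ d = 6)
    {M : Matrix (Fin tabF4.l) (Fin tabF4.l) ℤ} (hM : IsWMat M) {a : ZMod r} (ha : orderOf a = d)
    {x : Fin 2 → Fin tabF4.l → ZMod r} (hx : LinearIndependent (ZMod r) x)
    (hxM : ∀ i, x i ᵥ* M.map (Int.castRingHom (ZMod r)) = a • x i) {s : ℕ} (hs : s < tabF4.n) :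
    ∃ i, x i ⬝ᵥ (fun j => (carV tabF4 s j : ZMod r)) ≠ 0 := by
  by_contra! h0
  obtain ⟨-, hQ, hspan⟩ := small_charpoly h5 hd' hM ha hx hxM
  obtain ⟨c, hc4, hcd⟩ := cyclotomic_small hd'
  rw [hcd] at hQ
  simp only [map_add, map_mul, map_pow, aeval_X, aeval_C, map_one] at hQ
  rw [← Algebra.smul_def, pow_two] at hQ
  set A := M.map (Int.castRingHom (ZMod r)) with hA
  set v : Fin tabF4.l → ℤ := carV tabF4 s with hv
  have hMM : M *ᵥ (M *ᵥ v) + c • (M *ᵥ v) + v = 0 := by
    rw [Matrix.mulVec_mulVec, ← Matrix.smul_mulVec, ← Matrix.add_mulVec]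
    nth_rewrite 2 [← Matrix.one_mulVec v]
    rw [← Matrix.add_mulVec, hQ, Matrix.zero_mulVec]
  have hroot : a * a + (c : ZMod r) * a + 1 = 0 := by
    have h1 : (cyclotomic d (ZMod r)).IsRoot a :=
      (ha ▸ IsPrimitiveRoot.orderOf a : IsPrimitiveRoot a d).isRoot_cyclotomic (by omega)
    rw [← map_cyclotomic_int, hcd] at h1
    simpa [pow_two] using h1
  set w : ZMod r := a + (c : ZMod r) with hw
  have hAA : A * A + (c : ZMod r) • A + 1 = 0 := by
    have h1 := congrArg (fun X : Matrix (Fin tabF4.l) (Fin tabF4.l) ℤ =>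
      X.map (Int.castRingHom (ZMod r))) hQ
    simp only [Matrix.map_add _ (map_add _), Matrix.map_mul, Matrix.map_one _ (map_zero _) (map_one _),
      Matrix.map_zero _ (map_zero _)] at h1
    rw [← h1]
    congr 2
    ext i j
    rw [Matrix.smul_apply, Matrix.map_apply, Matrix.smul_apply, hA, Matrix.map_apply]
    simp
  set ab : Fin tabF4.l → ZMod r := fun j => (v j : ZMod r) with hab
  set u : Fin tabF4.l → ZMod r := A *ᵥ ab + w • ab with hu
  have hu0 : ∀ z : Fin tabF4.l → ZMod r, z ⬝ᵥ u = 0 := by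
    intro z
    set zp := z ᵥ* A + w • z with hzp
    have hz : zp ᵥ* A = a • zp := by
      rw [hzp, Matrix.add_vecMul, Matrix.vecMul_vecMul, Matrix.smul_vecMul,
        show A * A = -((c : ZMod r) • A) - 1 from by
          rw [add_assoc, add_eq_zero_iff_eq_neg] at hAA; rw [hAA, neg_add, sub_eq_add_neg],
        Matrix.vecMul_sub, Matrix.vecMul_neg, Matrix.vecMul_smul, Matrix.vecMul_one]
      funext j
      simp only [Pi.add_apply, Pi.sub_apply, Pi.neg_apply, Pi.smul_apply, smul_eq_mul, hw]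
      linear_combination (-(z j)) * hroot
    obtain ⟨cs, hcs⟩ := hspan zp hz
    have h1 : zp ⬝ᵥ ab = 0 := by
      rw [hcs, sum_dotProduct]
      exact Finset.sum_eq_zero fun i _ => by rw [smul_dotProduct, h0 i, smul_zero]
    rw [hzp, add_dotProduct, smul_dotProduct, ← Matrix.dotProduct_mulVec] at h1
    rw [hu, dotProduct_add, dotProduct_smul]
    exact h1
  have hu1 : u = 0 := funext fun j => by simpa using hu0 (Pi.single j 1)
  obtain ⟨n, hn⟩ := hM.exists_acts (ZMod 2)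
  obtain ⟨t, ht, -, hte⟩ := hn s hs
  have hcast : ∀ j, (carV tabF4 t j : ZMod r) = -(w * ab j) := fun j => by
    have h1 := congrFun hu1 j
    rw [hu, Pi.add_apply, Pi.smul_apply, Pi.zero_apply, smul_eq_mul] at h1
    rw [← eq_neg_of_add_eq_zero_left h1, hte, ← hv]
    exact RingHom.map_mulVec (Int.castRingHom (ZMod r)) M v j
  have hne : v ≠ 0 := by
    intro e
    obtain ⟨k, -, hk⟩ := certF4.exists_wt_ne hs
    refine hk ?_
    rw [certF4.wt_eq_sum]
    refine Finset.sum_eq_zero fun j hj => ?_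
    rw [show tabF4.car j s = 0 from congrFun e ⟨j, Finset.mem_range.1 hj⟩, mul_zero]
  rcases minors_check s hs t ht with h | ⟨i, j, hij⟩
  · obtain ⟨i, hi⟩ := Function.ne_iff.1 hne
    rw [Pi.zero_apply] at hi
    set e := M *ᵥ v with he
    have key : ∀ j, v i * e j = e i * v j := fun j => by
      have h1 := h i j
      simp only [minor4] at h1
      rw [← hte]
      simp only [hv, carV]
      linarith
    have h2 : ∀ j, v i * (M *ᵥ e) j = e i * e j := fun j => by
      have h3 := congrFun (Matrix.mulVec_smul M (v i) e) j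
      rw [Pi.smul_apply, smul_eq_mul] at h3
      rw [← h3, show v i • e = e i • v from funext key, Matrix.mulVec_smul]
      rfl
    have h3 := congrFun hMM i
    simp only [Pi.add_apply, Pi.smul_apply, smul_eq_mul, Pi.zero_apply] at h3
    have h4 : e i ^ 2 + c * v i * e i + v i ^ 2 = 0 := by
      linear_combination (v i) * h3 - h2 i
    nlinarith [sq_nonneg (2 * e i + c * v i), mul_pos (sub_pos.2 hc4) (pow_two_pos_of_ne_zero hi)]
  · have h1 : ((minor4 s t i j : ℤ) : ZMod r) = 0 := by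
      have e1 := hcast i
      have e2 := hcast j
      simp only [hab, hv, carV] at e1 e2
      simp only [minor4, Int.cast_sub, Int.cast_mul, e1, e2]
      ring
    rw [ZMod.intCast_zmod_eq_zero_iff_dvd] at h1
    rcases hij with e | e | e | e <;> rw [e] at h1 <;>
      (have h2 := Int.natAbs_dvd_natAbs.2 h1; simp at h2) <;>
      first | omega | (have := Nat.le_of_dvd (by norm_num) h2; omega)

/-- The orders three, four and six are adjacent to themselves. -/
theorem exists_commute_small {r s d : ℕ} (hr : r.Prime) (hs : s.Prime)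
    (hrG : r ∣ Nat.card ↥(chevF4.group F)) (hd : orderOf (Fintype.card F : ZMod r) = d)
    (hsd : orderOf (Fintype.card F : ZMod s) = d) (hd' : d = 3 ∨ d = 4 ∨ d = 6) :
    ∃ x ∈ chevF4.group F, ∃ y ∈ chevF4.group F, orderOf x = r ∧ orderOf y = s ∧ Commute x y := by
  classical
  have : Fact r.Prime := ⟨hr⟩
  have : Fact s.Prime := ⟨hs⟩
  have hd0 : 0 < d := by omega
  have h5 := five_le_of_orderOf hd (by omega)
  have hrq : ¬ r ∣ Fintype.card F := fun h =>
    ne_zero_of_orderOf hd hd0 ((ZMod.natCast_eq_zero_iff _ _).2 h)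
  have hrW : ¬ r ∣ ([2, 6, 8, 12] : List ℕ).prod := fun h => by
    have h1 : r ∣ 2 ^ 7 * 3 ^ 2 := h
    rcases hr.dvd_mul.1 h1 with h2 | h2 <;>
      have := Nat.le_of_dvd (by norm_num) (hr.dvd_of_dvd_pow h2) <;> omega
  obtain ⟨P⟩ : Nonempty (Sylow r ↥(chevF4.group F)) := inferInstance
  obtain ⟨e⟩ := sylow_F4 hrq hrW hrG P
  rw [hd, show (([2, 6, 8, 12] : List ℕ).filter fun i => d ∣ i).length = 2 by
    rcases hd' with rfl | rfl | rfl <;> decide] at e
  set v := padicValNat r ((cyclotomic d ℤ).eval (Fintype.card F : ℤ)).natAbs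
  let ψ : (Fin 2 → Multiplicative (ZMod (r ^ v))) →* GL chevF4.Idx F :=
    ((chevF4.group F).subtype.comp (P : Subgroup ↥(chevF4.group F)).subtype).comp
      e.symm.toMonoidHom
  have hψ : Function.Injective ψ :=
    (Subtype.val_injective.comp Subtype.val_injective).comp e.symm.injective
  have hv : 0 < v := by
    by_contra hv0
    have h1 := Nat.card_congr e.toEquiv
    rw [show v = 0 by omega, pow_zero, Nat.card_fun] at h1
    have h2 := P.dvd_card_of_dvd_card hrG
    rw [h1] at h2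
    simp at h2
    exact hr.ne_one h2
  obtain ⟨g, hg⟩ := exists_prime_orderOf_dvd_card' (G := Multiplicative (ZMod (r ^ v))) r
    (by rw [Nat.card_congr Multiplicative.toAdd, Nat.card_zmod]; exact dvd_pow_self r hv.ne')
  let xs : Fin 2 → GL chevF4.Idx F := fun i => ψ (Pi.mulSingle i g)
  have hxs : ∀ i, orderOf (xs i) = r := fun i => by
    rw [orderOf_injective ψ hψ]
    refine orderOf_eq_prime ?_ fun h0 => hr.ne_one ?_
    · rw [← Pi.mulSingle_pow, orderOf_dvd_iff_pow_eq_one.1 hg.dvd, Pi.mulSingle_one]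
    · rw [← hg, show g = 1 by simpa using congrFun h0 i, orderOf_one]
  obtain ⟨M, x, hM, hxLI, hxM, h1, -⟩ := frob_torus hr h5 hd hd0 xs
    (fun i => ((e.symm (Pi.mulSingle i g)).1).2) hxs
    (fun i j => ((Commute.all _ _).map ψ))
    (fun ex he i => by
      have h2 : (List.ofFn fun i => Pi.mulSingle i (g ^ ex i)).prod =
          (1 : Fin 2 → Multiplicative (ZMod (r ^ v))) := hψ (by
        rw [map_one, map_list_prod, List.map_ofFn, ← he]
        refine congrArg (fun f => (List.ofFn f).prod) (funext fun i => ?_)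
        simp [xs, Pi.mulSingle_pow, ← map_pow])
      rw [List.prod_ofFn, Finset.univ_prod_mulSingle] at h2
      rw [← hg]
      exact orderOf_dvd_of_pow_eq_one (congrFun h2 i))
    (fun M x hM hx hxM s hs => small_regular h5 hd' hM hd hx hxM hs)
  obtain ⟨hc, -⟩ := small_charpoly h5 hd' hM hd hxLI hxM
  obtain ⟨a, ha, hao, hac⟩ := h1 s hs (by rw [← hsd, pow_orderOf_eq_one])
    (exists_eigen_iff.2 (by
      rw [hc, Polynomial.map_pow, map_cyclotomic, IsRoot, eval_pow,
        show eval (Fintype.card F : ZMod s) (cyclotomic d (ZMod s)) = 0 from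
          isRoot_of_orderOf hsd hd0, zero_pow two_ne_zero]))
  exact ⟨xs 0, ((e.symm (Pi.mulSingle 0 g)).1).2, a, ha, hxs 0, hao, (hac 0).symm⟩

/-- The eigenvector of a diagonal element carried back from its image under Frobenius. -/
theorem eigen_of_fixed {L : Type*} [Field L] [Fintype L] {r q : ℕ} [Fact r.Prime]
    (hrL : r ∣ Nat.card Lˣ) {z : GL chevF4.Idx L} (hz : z ∈ chevF4.diagonalSubgroup L)
    (hzo : orderOf z = r) {n : GL chevF4.Idx L} (hn : n ∈ chevF4.monomialSubgroup L)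
    {M : Matrix (Fin tabF4.l) (Fin tabF4.l) ℤ} (hM : Acts chevF4 tabF4 n M)
    (hnz : n * z ^ q * n⁻¹ = z) :
    ∃ c : Fin tabF4.l → ZMod r, c ≠ 0 ∧
      c ᵥ* M.map (Int.castRingHom (ZMod r)) = (q : ZMod r) • c := by
  obtain ⟨ω, hω⟩ := exists_prime_orderOf_dvd_card' (G := Lˣ) r hrL
  obtain ⟨X, hX⟩ := exists_coord hω hz (by rw [← hzo, pow_orderOf_eq_one])
  refine ⟨fun j => (X j : ZMod r), fun h0 => ?_, ?_⟩
  · have h1 : (fun j => ω ^ X j) = 1 := funext fun j => orderOf_dvd_iff_zpow_eq_one.1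
      (by rw [hω]; exact (ZMod.intCast_zmod_eq_zero_iff_dvd _ _).1 (congrFun h0 j))
    rw [h1, map_one] at hX
    rw [← hX, orderOf_one] at hzo
    exact (Fact.out : r.Prime).ne_one hzo.symm
  · have h2 := vecMul_of_conj certF4 iF4_mul hω hn hM X (q : ℤ) (by
      rw [hX]
      refine Eq.trans ?_ hnz
      refine congrArg (fun t => n * t * n⁻¹) ?_
      rw [← hX, ← map_pow]
      refine congrArg _ (funext fun j => ?_)
      rw [Pi.pow_apply, mul_comm, _root_.zpow_mul, zpow_natCast])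
    rwa [Int.cast_natCast] at h2

/-- The orders three, four and six are pairwise not adjacent. -/
theorem small_not_commute {r s k l : ℕ} (hr : r.Prime) (hs : s.Prime)
    (hk : orderOf (Fintype.card F : ZMod r) = k) (hl : orderOf (Fintype.card F : ZMod s) = l)
    (hkl : (k = 3 ∧ l = 4) ∨ (k = 3 ∧ l = 6) ∨ (k = 4 ∧ l = 6))
    {x y : GL chevF4.Idx F} (hx : x ∈ chevF4.group F) (hy : y ∈ chevF4.group F)
    (hxo : orderOf x = r) (hyo : orderOf y = s) : ¬ Commute x y := by
  classical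
  intro hc
  have : Fact r.Prime := ⟨hr⟩
  have : Fact s.Prime := ⟨hs⟩
  set q := Fintype.card F with hq
  have hr5 := five_le_of_orderOf hk (by omega)
  have hs5 := five_le_of_orderOf hl (by omega)
  obtain ⟨p, hp⟩ := CharP.exists F
  obtain ⟨e', hpp, -⟩ := FiniteField.card F p
  have := Fact.mk hpp
  have : NeZero (k * l) := ⟨Nat.mul_ne_zero (by omega) (by omega)⟩
  let L := FiniteField.Extension F p (k * l)
  let : Fintype L := Fintype.ofFinite L
  have hQq : Fintype.card L = q ^ (k * l) := by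
    rw [← Nat.card_eq_fintype_card, FiniteField.natCard_extension, Nat.card_eq_fintype_card]
  have hQr : (Fintype.card L : ZMod r) = 1 := by
    rw [hQq, Nat.cast_pow, pow_mul, ← hk, pow_orderOf_eq_one, one_pow]
  have hQs : (Fintype.card L : ZMod s) = 1 := by
    rw [hQq, Nat.cast_pow, mul_comm, pow_mul, ← hl, pow_orderOf_eq_one, one_pow]
  have hroot : ∀ t : ℕ, (Fintype.card L : ZMod t) = 1 → t ∣ Nat.card Lˣ := fun t ht => by
    rw [Nat.card_units, Nat.card_eq_fintype_card, ← ZMod.natCast_eq_zero_iff,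
      Nat.cast_sub Fintype.card_pos, ht, Nat.cast_one, sub_self]
  set f : F →+* L := algebraMap F L
  set σ : L →+* L := (FiniteField.frobeniusAlgHom F L).toRingHom
  have hσf : ∀ g : GL chevF4.Idx F, mapGL chevF4 σ (mapGL chevF4 f g) = mapGL chevF4 f g := fun g =>
    (mapGL_eq_self_iff chevF4 σ _).2 fun i j => (mem_range_iff_pow f _).2 ⟨_, rfl⟩
  have hσd : ∀ d ∈ chevF4.diagonalSubgroup L, mapGL chevF4 σ d = d ^ q := fun d hd => by
    obtain ⟨c, rfl⟩ := certF4.range_torusHom.ge hd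
    rw [mapGL_torusHom, ← map_pow]
    congr 1
  let xs : Fin 2 → GL chevF4.Idx F := ![x, y]
  let ℓ : Fin 2 → ℕ := ![r, s]
  obtain ⟨g, hg, hgd⟩ := CfsgLib.Classical.AltSection.EigenFusion.exists_conj_diagonal certF4
    (fun i => mapGL chevF4 f (xs i)) ℓ (by rw [Fin.forall_fin_two]; exact ⟨hr, hs⟩)
    (by rw [Fin.forall_fin_two]; exact ⟨certF4.map_mem_group f hx, certF4.map_mem_group f hy⟩)
    (by
      rw [Fin.forall_fin_two]
      exact ⟨(orderOf_injective _ (mapGL_injective chevF4 f) x).trans hxo,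
        (orderOf_injective _ (mapGL_injective chevF4 f) y).trans hyo⟩)
    (fun i j => Commute.map (by
      revert i j
      rw [Fin.forall_fin_two]
      constructor <;> rw [Fin.forall_fin_two]
      exacts [⟨Commute.refl _, hc⟩, ⟨hc.symm, Commute.refl _⟩]) _)
    (by rw [Fin.forall_fin_two]; exact ⟨not_dvd_index hr hr5 hQr, not_dvd_index hs hs5 hQs⟩)
    Finset.univ
  have hzx : g * mapGL chevF4 f x * g⁻¹ ∈ chevF4.diagonalSubgroup L := hgd 0 (Finset.mem_univ _)
  have hzy : g * mapGL chevF4 f y * g⁻¹ ∈ chevF4.diagonalSubgroup L := hgd 1 (Finset.mem_univ _)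
  obtain ⟨n, hn, hnc⟩ := diag_fusion certF4
    (mul_mem (certF4.map_mem_group σ hg) (inv_mem hg) : mapGL chevF4 σ g * g⁻¹ ∈ chevF4.group L)
  obtain ⟨w, hw, hM⟩ := exists_acts_word certF4 (inv_mem hn)
  have hfix : ∀ a : GL chevF4.Idx F, g * mapGL chevF4 f a * g⁻¹ ∈ chevF4.diagonalSubgroup L →
      n⁻¹ * (g * mapGL chevF4 f a * g⁻¹) ^ q * n⁻¹⁻¹ = g * mapGL chevF4 f a * g⁻¹ := fun a ha => by
    have h1 := hnc _ ha _ (pow_mem ha q) (by
      rw [← hσd _ ha, map_mul, map_mul, map_inv, hσf]; group)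
    rw [← h1]; group
  have horder : ∀ a : GL chevF4.Idx F,
      orderOf (g * mapGL chevF4 f a * g⁻¹) = orderOf a := fun a =>
    (orderOf_injective (MulAut.conj g).toMonoidHom (MulAut.conj g).injective _).trans
      (orderOf_injective _ (mapGL_injective chevF4 f) a)
  obtain ⟨c, hc0, hcM⟩ := eigen_of_fixed (hroot r hQr) hzx ((horder x).trans hxo) (inv_mem hn) hM
    (hfix x hzx)
  obtain ⟨c', hc0', hcM'⟩ := eigen_of_fixed (hroot s hQs) hzy ((horder y).trans hyo) (inv_mem hn) hM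
    (hfix y hzy)
  obtain ⟨N, hN, hMN⟩ := acts_finite_order certF4 iF4_mul hM
  have hdvd : ∀ (t j : ℕ) [Fact t.Prime], 5 ≤ t → orderOf (q : ZMod t) = j → 2 ≤ j.totient →
      (∃ c : Fin tabF4.l → ZMod t, c ≠ 0 ∧
        c ᵥ* (w.map (reflMat tabF4)).prod.map (Int.castRingHom (ZMod t)) = (q : ZMod t) • c) →
      cyclotomic j ℤ ∣ (w.map (reflMat tabF4)).prod.charpoly := by
    intro t j ht5' ht5 hj htot he
    have hj0 : 0 < j := Nat.totient_pos.1 (by omega)
    have ha0 := ne_zero_of_orderOf hj hj0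
    obtain ⟨m, R, hR, -, -, -, hle⟩ := exists_mult hN hMN ha0
      (wild_of_totient ha0 (by rw [hj, show tabF4.l = 4 from rfl]; nlinarith [Nat.sub_add_cancel (show 1 ≤ t by omega)]))
    rw [hj] at hR
    have h1 : 0 < m := lt_of_lt_of_le
      ((rootMultiplicity_pos ((charpoly_monic _).map _).ne_zero).2 (exists_eigen_iff.1 he)) hle
    rw [hR]
    exact (dvd_pow_self _ h1.ne').trans (dvd_mul_right _ _)
  have htk : k.totient = 2 := by rcases hkl with ⟨rfl, -⟩ | ⟨rfl, -⟩ | ⟨rfl, -⟩ <;> rfl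
  have htl : l.totient = 2 := by rcases hkl with ⟨-, rfl⟩ | ⟨-, rfl⟩ | ⟨-, rfl⟩ <;> rfl
  have hrel : IsRelPrime (cyclotomic k ℤ) (cyclotomic l ℤ) :=
    (cyclotomic.irreducible (by omega)).isRelPrime_iff_not_dvd.2 fun h => by
      have h1 := eq_of_monic_of_dvd_of_natDegree_le (cyclotomic.monic k ℤ) (cyclotomic.monic l ℤ) h
        (by rw [natDegree_cyclotomic, natDegree_cyclotomic, htk, htl])
      exact absurd (cyclotomic_injective h1) (by omega)
  have h3 := hrel.mul_dvd (hdvd r k hr5 hk (by omega) ⟨c, hc0, hcM⟩)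
    (hdvd s l hs5 hl (by omega) ⟨c', hc0', hcM'⟩)
  refine charpoly_ne hw hkl (eq_of_monic_of_dvd_of_natDegree_le ((cyclotomic.monic k ℤ).mul
    (cyclotomic.monic l ℤ)) (charpoly_monic _) h3 ?_)
  rw [Matrix.charpoly_natDegree_eq_dim, Fintype.card_fin,
    (cyclotomic.monic k ℤ).natDegree_mul (cyclotomic.monic l ℤ), natDegree_cyclotomic,
    natDegree_cyclotomic, htk, htl]
  exact le_of_eq rfl

end CfsgLib.Chev.F4Graph
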