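import Cfsg.Agent.Lib.Chev.GTorus.Types
import Cfsg.Agent.Lib.Chev.WeylF4
import Cfsg.Agent.Lib.Chev.ParabolicOrder
import Cfsg.Agent.Lib.Chev.StSmall
import Cfsg.Agent.Lib.Chev.SL2
import Cfsg.Agent.Lib.Classical.Card

/-!
A root subgroup of rank one and the Levi factor centralizing it, in type F4 in characteristic two.
-/

set_option autoImplicit false
set_option maxRecDepth 100000
set_option maxHeartbeats 1000000

namespace CfsgLib.Chev.F4Graph

open Cfsg.Lie Matrix CfsgLib.Chev CfsgLib.Chev.Cert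
open scoped MatrixGroups

/-- The nodes orthogonal to the highest root. -/
def nodes : List ℕ := [0, 1, 2]

/-- The roots of the Levi factor. -/
def subRoots : List ℕ :=
  (List.range 48).filter fun r : ℕ => (List.range 4).all fun i : ℕ =>
    decide (i ∈ nodes) || decide ((chevF4.coroot.getD r #[]).getD i 0 = 0)

/-- The roots of the radical. -/
def radRoots : List ℕ :=
  (List.range 48).filter fun r : ℕ => decide (24 ≤ r) && !((List.range 4).all fun i : ℕ =>
    decide (i ∈ nodes) || decide ((chevF4.coroot.getD r #[]).getD i 0 = 0))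

theorem subRoots_iff (r : ℕ) : r ∈ subRoots ↔ chevF4.InRootSub {i | i ∈ nodes} r := by
  have h1 : chevF4.nroots = 48 := by decide +kernel
  have h2 : chevF4.rank = 4 := by decide +kernel
  unfold subRoots ChevalleyDatum.InRootSub
  rw [List.mem_filter, List.mem_range, List.all_eq_true]
  simp only [List.mem_range, Bool.or_eq_true, decide_eq_true_eq, Set.mem_ofPred_eq, h1, h2,
    or_iff_not_imp_left]

theorem radRoots_iff (r : ℕ) : r ∈ radRoots ↔ r ∈ radSet chevF4 tabF4 {i | i ∈ nodes} := by
  have hn : tabF4.n = 48 := by decide +kernel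
  have hh : tabF4.half = 24 := by decide +kernel
  have h1 : chevF4.nroots = 48 := by decide +kernel
  have h2 : chevF4.rank = 4 := by decide +kernel
  unfold radRoots
  rw [List.mem_filter, List.mem_range, Bool.and_eq_true, Bool.not_eq_true', ← Bool.not_eq_true,
    List.all_eq_true]
  simp only [List.mem_range, Bool.or_eq_true, decide_eq_true_eq]
  show _ ↔ r ∈ posSet tabF4 ∧ ¬ chevF4.InRootSub {i | i ∈ nodes} r
  unfold posSet ChevalleyDatum.InRootSub
  simp only [Set.mem_ofPred_eq, hn, hh, h1, h2, or_iff_not_imp_left]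
  tauto

theorem stab_nodes : ((tabF4.stabWords radRoots (transversal levelsF4 4)).all fun w =>
    w.all fun i => decide (i ∈ nodes)) = true := by
  decide +kernel

theorem stab_counts : (tabF4.stabWords radRoots (transversal levelsF4 4)).map
    (fun w => tabF4.negCount w) =
      [0, 1, 1, 2, 2, 3, 1, 2, 2, 3, 3, 4, 2, 3, 3, 4, 4, 5, 3, 4, 4, 5, 5, 6, 3, 4, 4, 5, 5, 6,
        4, 5, 5, 6, 6, 7, 5, 6, 6, 7, 7, 8, 6, 7, 7, 8, 8, 9] := by
  decide +kernel

theorem sub_commute : subRoots.all (fun r =>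
    tabF4.chkZero 2 r 47 && tabF4.chkZero 2 r 0) = true := by
  decide +kernel

theorem root_facts : tabF4.neg 47 = 0 ∧ tabF4.neg 33 = 14 ∧ 33 ∈ subRoots ∧ 14 ∈ subRoots ∧
    tabF4.n = 48 ∧ tabF4.half = 24 ∧ tabF4.l = 4 := by
  decide +kernel

variable {F : Type*} [Field F]

/-- The subgroup generated by the root subgroups of the Levi factor. -/
def leviCore (F : Type*) [Field F] : Subgroup (GL chevF4.Idx F) :=
  gen chevF4 F {r | r ∈ subRoots}

theorem leviCore_le_group : leviCore F ≤ chevF4.group F := by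
  refine (Subgroup.closure_le _).2 ?_
  rintro _ ⟨r, hr, t, rfl⟩
  exact certF4.X_mem_group (certF4.inRootSub_lt ((subRoots_iff r).1 hr)) t

section Order

variable [Fintype F]

theorem card_sup_dvd {G : Type*} [Group G] [Finite G] {A B : Subgroup G}
    (hB : B ≤ Subgroup.normalizer (A : Set G)) :
    Nat.card ↥(A ⊔ B) ∣ Nat.card A * Nat.card B := by
  set N := Subgroup.normalizer (A : Set G)
  have hA : A ≤ N := Subgroup.le_normalizer
  have h1 : A.relIndex (A ⊔ B) = A.relIndex B := by
    have hn : (A.subgroupOf N).Normal := Subgroup.normal_in_normalizer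
    have e1 : (A.subgroupOf N).relIndex ((A ⊔ B).subgroupOf N) = A.relIndex (A ⊔ B) :=
      Subgroup.relIndex_subgroupOf (sup_le hA hB)
    have e2 : (A.subgroupOf N).relIndex (B.subgroupOf N) = A.relIndex B :=
      Subgroup.relIndex_subgroupOf hB
    rw [← e1, ← e2, Subgroup.subgroupOf_sup hA hB, Subgroup.relIndex_sup_left]
  rw [← Subgroup.relIndex_bot_left (A ⊔ B), ← Subgroup.relIndex_mul_relIndex ⊥ A (A ⊔ B) bot_le
    le_sup_left, h1, Subgroup.relIndex_bot_left]
  exact mul_dvd_mul_left _ (Subgroup.relIndex_dvd_card A B)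

/-- Primes of order three, four or six divide the order of the Levi factor. -/
theorem dvd_card_leviCore {s : ℕ} (hs : s.Prime) (hq : (Fintype.card F : ZMod s) ≠ 0)
    (hq1 : (Fintype.card F : ZMod s) ≠ 1)
    (he : orderOf (Fintype.card F : ZMod s) ∈ ({3, 4, 6} : Finset ℕ)) :
    s ∣ Nat.card ↥(leviCore F) := by
  classical
  have : Fact s.Prime := ⟨hs⟩
  set q := Fintype.card F with hqdef
  obtain ⟨-, -, -, -, hn, hh, hl⟩ := root_facts
  have hJ := stab_nodes
  simp only [List.all_eq_true, decide_eq_true_eq] at hJ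
  have hP := certF4.card_parabolic (F := F) chkLevelsF4 radRoots_iff (by rw [hl]; exact hJ)
  have hsum : ((tabF4.stabWords radRoots (transversal levelsF4 tabF4.l)).map
      fun w => q ^ tabF4.negCount w).sum =
      (1 + q) * ((1 + q + q ^ 2 + q ^ 3) * (1 + q + q ^ 2 + q ^ 3 + q ^ 4 + q ^ 5)) := by
    rw [hl, show ((tabF4.stabWords radRoots (transversal levelsF4 4)).map
      fun w => q ^ tabF4.negCount w) = ((tabF4.stabWords radRoots (transversal levelsF4 4)).map
        (fun w => tabF4.negCount w)).map (q ^ ·) by rw [List.map_map]; rfl, stab_counts]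
    simp only [List.map_cons, List.map_nil, List.sum_cons, List.sum_nil]
    ring
  have hdvd : s ∣ Nat.card ↥(chevF4.parabolicSubgroup F {i | i ∈ nodes}) := by
    rw [hP, hsum]
    refine Dvd.dvd.mul_left ?_ _
    rw [← ZMod.natCast_eq_zero_iff]
    push_cast
    set a : ZMod s := (q : ZMod s)
    have h4 : a ^ 4 = 1 ∨ a ^ 6 = 1 := by
      simp only [Finset.mem_insert, Finset.mem_singleton] at he
      rcases he with e | e | e
      · exact Or.inr (orderOf_dvd_iff_pow_eq_one.1 (e ▸ by norm_num))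
      · exact Or.inl (orderOf_dvd_iff_pow_eq_one.1 (e ▸ dvd_rfl))
      · exact Or.inr (orderOf_dvd_iff_pow_eq_one.1 (e ▸ dvd_rfl))
    rcases h4 with h | h
    · have : (a - 1) * (1 + a + a ^ 2 + a ^ 3) = 0 := by linear_combination h
      rw [(mul_eq_zero.1 this).resolve_left (sub_ne_zero.2 hq1)]
      ring
    · have : (a - 1) * (1 + a + a ^ 2 + a ^ 3 + a ^ 4 + a ^ 5) = 0 := by linear_combination h
      rw [(mul_eq_zero.1 this).resolve_left (sub_ne_zero.2 hq1)]
      ring
  have hsq : ¬ s ∣ q := fun h => hq ((ZMod.natCast_eq_zero_iff _ _).2 h)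
  have hsq1 : ¬ s ∣ q - 1 := fun h => hq1 (by
    rw [← ZMod.natCast_eq_zero_iff, Nat.cast_sub Fintype.card_pos, Nat.cast_one, sub_eq_zero] at h
    exact h)
  set J : Set ℕ := {i | i ∈ nodes}
  have hUn : chevF4.leviSubgroup F J ≤
      Subgroup.normalizer (chevF4.unipotentRadical F J : Set (GL chevF4.Idx F)) :=
    (le_sup_right.trans (certF4.radical_sup_levi J).le).trans (certF4.parabolic_le_normalizer J)
  have hTn : chevF4.diagonalSubgroup F ≤
      Subgroup.normalizer (leviCore F : Set (GL chevF4.Idx F)) :=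
    certF4.diagonal_le_normalizer_gen fun r hr => certF4.inRootSub_lt ((subRoots_iff r).1 hr)
  have hL : chevF4.leviSubgroup F J = leviCore F ⊔ chevF4.diagonalSubgroup F := by
    have e : {r | chevF4.InRootSub J r} = {r | r ∈ subRoots} :=
      Set.ext fun r => (subRoots_iff r).symm
    rw [certF4.leviSubgroup_eq, e, sup_comm, leviCore]
  have h1 := hdvd
  rw [← certF4.radical_sup_levi J] at h1
  rcases hs.dvd_mul.1 (h1.trans (card_sup_dvd hUn)) with h2 | h2
  · have h3 : Nat.card ↥(chevF4.unipotentRadical F J) ∣ Nat.card ↥(chevF4.posUnipotent F) := by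
      refine Subgroup.card_dvd_of_le ?_
      rw [certF4.unipotentRadical_eq]
      exact certF4.gen_pos_le fun r hr => hr.1
    rw [certF4.card_posUnipotent] at h3
    exact absurd (hs.dvd_of_dvd_pow (h2.trans h3)) hsq
  · rw [hL] at h2
    rcases hs.dvd_mul.1 (h2.trans (card_sup_dvd hTn)) with h3 | h3
    · exact h3
    · rw [card_diagonalF4] at h3
      exact absurd (hs.dvd_of_dvd_pow h3) hsq1

end Order

section RankOne

variable [CharP F 2]

/-- The homomorphism from the group of two by two matrices is injective. -/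
theorem sl2_hom_injective {r : ℕ} (hr : r < tabF4.n) (hpos : tabF4.half ≤ r)
    {φ : SL(2, F) →* GL chevF4.Idx F}
    (hu : ∀ (g : SL(2, F)) (t : F), g.1 = !![1, t; 0, 1] → φ g = X chevF4 r t)
    (hv : ∀ (g : SL(2, F)) (t : F), g.1 = !![1, 0; t, 1] → φ g = X chevF4 (tabF4.neg r) t) :
    Function.Injective φ := by
  classical
  have hneg : tabF4.neg r < tabF4.half := by
    by_contra hh
    have := (certF4.half_le_neg_iff hr).1 (not_lt.1 hh)
    omega
  have hlow : ∀ g : SL(2, F), φ g = 1 → g.1 1 0 = 0 := by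
    intro g hg
    by_contra hc
    have hd := SL2Pair.det_eq g
    have e : g = SL2Pair.E ((g.1 0 0 - 1) / g.1 1 0) * SL2Pair.L (g.1 1 0) *
        SL2Pair.E ((g.1 1 1 - 1) / g.1 1 0) := by
      refine Subtype.ext ?_
      rw [SL2Pair.val_mul, SL2Pair.val_mul, SL2Pair.E_val, SL2Pair.E_val, SL2Pair.L_val]
      ext i j
      fin_cases i <;> fin_cases j <;>
        simp [Matrix.mul_apply, Fin.sum_univ_two] <;> field_simp <;>
          first | ring1 | linear_combination hd | linear_combination -hd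
    rw [e, map_mul, map_mul, hu _ _ (SL2Pair.E_val _), hu _ _ (SL2Pair.E_val _),
      hv _ _ (SL2Pair.L_val _), mul_assoc, mul_eq_one_iff_inv_eq, inv_eq_iff_eq_inv,
      _root_.mul_inv_rev] at hg
    have hmem : X chevF4 (tabF4.neg r) (g.1 1 0) ∈
        chevF4.borelSubgroup F ⊓ chevF4.negUnipotent F := by
      refine Subgroup.mem_inf.2 ⟨?_, ?_⟩
      · have h1 : X chevF4 (tabF4.neg r) (g.1 1 0) =
            (X chevF4 r ((g.1 0 0 - 1) / g.1 1 0))⁻¹ *
              (X chevF4 r ((g.1 1 1 - 1) / g.1 1 0))⁻¹ := by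
          rw [hg]; group
        rw [h1]
        exact mul_mem (inv_mem (certF4.X_mem_borel hpos hr _))
          (inv_mem (certF4.X_mem_borel hpos hr _))
      · rw [certF4.negUnipotent_eq]
        exact X_mem_gen chevF4 (show tabF4.neg r ∈ {q : ℕ | q < tabF4.half} from hneg) _
    rw [certF4.borel_inf_negUnipotent, Subgroup.mem_bot,
      certF4.X_eq_one_iff (neg_lt (T := tabF4) hr)] at hmem
    exact hc hmem
  refine (injective_iff_map_eq_one φ).2 fun g hg => ?_
  have h10 := hlow g hg
  have hconj : ∀ k : SL(2, F), φ (k * g * k⁻¹) = 1 := fun k => by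
    rw [map_mul, map_mul, hg, mul_one, map_inv, mul_inv_cancel]
  have h01 : g.1 0 1 = 0 := by
    have h1 := hlow _ (hconj SL2Pair.W)
    simp [SL2Pair.val_mul, SL2Pair.W_val, Matrix.SpecialLinearGroup.coe_inv, Matrix.adjugate_fin_two,
      Matrix.mul_apply, Matrix.vecMul, dotProduct, Fin.sum_univ_two] at h1
    exact h1
  have hdiag : g.1 0 0 = g.1 1 1 := by
    have h1 := hlow _ (hconj (SL2Pair.L 1))
    simp [SL2Pair.val_mul, SL2Pair.L_val, Matrix.SpecialLinearGroup.coe_inv, Matrix.adjugate_fin_two,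
      Matrix.mul_apply, Matrix.vecMul, dotProduct, Fin.sum_univ_two, h10, h01] at h1
    linear_combination h1
  have hd := SL2Pair.det_eq g
  rw [h01, h10, mul_zero, sub_zero, ← hdiag] at hd
  have ha : g.1 0 0 = 1 := by
    have h2 : (g.1 0 0 - 1) * (g.1 0 0 - 1) = 0 := by
      have := CharTwo.two_eq_zero (R := F)
      linear_combination hd + (1 - g.1 0 0) * this
    exact sub_eq_zero.1 (mul_self_eq_zero.1 h2)
  refine Subtype.ext ?_
  rw [SL2Pair.val_one]
  ext i j
  fin_cases i <;> fin_cases j <;> simp [h10, h01, ha, ← hdiag]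

/-- Elements of each order dividing that of the rank one group, between two opposite root groups. -/
theorem exists_rank_one [Fintype F] {r p : ℕ} (hr : r < tabF4.n) (hpos : tabF4.half ≤ r)
    (hp : p.Prime) (hq : (Fintype.card F : ZMod p) = 0 ∨ (Fintype.card F : ZMod p) ^ 2 = 1) :
    ∃ g ∈ chevF4.rootSubgroup F r ⊔ chevF4.rootSubgroup F (tabF4.neg r), orderOf g = p := by
  classical
  have : Fact p.Prime := ⟨hp⟩
  obtain ⟨φ, hmem, hu, hv⟩ := certF4.exists_sl2_hom (F := F) hr
  have hdvd : p ∣ Nat.card SL(2, F) := by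
    rw [CfsgLib.Classical.card_SL_two]
    rcases hq with h | h
    · exact Dvd.dvd.mul_right ((ZMod.natCast_eq_zero_iff _ _).1 h) _
    · refine Dvd.dvd.mul_left ?_ _
      rw [← ZMod.natCast_eq_zero_iff, Nat.cast_sub (Nat.one_le_pow _ _ Fintype.card_pos),
        Nat.cast_pow, h, Nat.cast_one, sub_self]
  obtain ⟨g, hg⟩ := exists_prime_orderOf_dvd_card' p hdvd
  exact ⟨φ g, hmem g, by rw [orderOf_injective φ (sl2_hom_injective hr hpos hu hv), hg]⟩

theorem rootSubgroup_le_leviCore {r : ℕ} (hr : r ∈ subRoots) :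
    chevF4.rootSubgroup F r ≤ leviCore F := by
  rw [certF4.rootSubgroup_eq]
  exact gen_mono _ fun a ha => (Set.mem_singleton_iff.1 ha).symm ▸ hr

/-- The Levi factor centralizes the highest root group and its opposite. -/
theorem commute_leviCore {a b : GL chevF4.Idx F}
    (ha : a ∈ chevF4.rootSubgroup F 47 ⊔ chevF4.rootSubgroup F (tabF4.neg 47))
    (hb : b ∈ leviCore F) : Commute a b := by
  rw [root_facts.1] at ha
  have key : chevF4.rootSubgroup F 47 ⊔ chevF4.rootSubgroup F 0 ≤
      Subgroup.centralizer (leviCore F : Set (GL chevF4.Idx F)) := by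
    rw [certF4.rootSubgroup_eq, certF4.rootSubgroup_eq, leviCore, gen, gen, gen]
    refine sup_le ?_ ?_ <;>
    · rw [Subgroup.closure_le, Subgroup.centralizer_closure]
      rintro _ ⟨r, hr, t, rfl⟩ _ ⟨u, hu, v, rfl⟩
      rw [Set.mem_singleton_iff] at hr
      subst hr
      have h1 := List.all_eq_true.1 sub_commute u hu
      rw [Bool.and_eq_true] at h1
      first
        | exact (CfsgLib.Chev.Ext.commute_of_chkZero certF4 h1.1 v t).eq
        | exact (CfsgLib.Chev.Ext.commute_of_chkZero certF4 h1.2 v t).eq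
  exact (Subgroup.mem_centralizer_iff.1 (key ha) b hb).symm

/-- The orders at most two are adjacent to those at most six. -/
theorem exists_commute_low [Fintype F] {r s : ℕ} (hr : r.Prime) (hs : s.Prime)
    (hqr : (Fintype.card F : ZMod r) = 0 ∨ (Fintype.card F : ZMod r) ^ 2 = 1)
    (hqs : (Fintype.card F : ZMod s) = 0 ∨ (Fintype.card F : ZMod s) ^ 2 = 1 ∨
      orderOf (Fintype.card F : ZMod s) ∈ ({3, 4, 6} : Finset ℕ)) :
    ∃ x ∈ chevF4.group F, ∃ y ∈ chevF4.group F, orderOf x = r ∧ orderOf y = s ∧ Commute x y := by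
  classical
  obtain ⟨hn47, hn33, h33, h14, hn, hh, -⟩ := root_facts
  obtain ⟨x, hx, hxo⟩ := exists_rank_one (F := F) (r := 47) (by omega) (by omega) hr hqr
  have hxG : x ∈ chevF4.group F := by
    refine (sup_le ?_ ?_ : chevF4.rootSubgroup F 47 ⊔ chevF4.rootSubgroup F (tabF4.neg 47) ≤
      chevF4.group F) hx <;>
    · rw [certF4.rootSubgroup_eq, gen, Subgroup.closure_le]
      rintro _ ⟨r, hr, t, rfl⟩
      rw [Set.mem_singleton_iff] at hr
      exact certF4.X_mem_group (by omega) t
  have hy : ∃ y ∈ leviCore F, orderOf y = s := by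
    by_cases h0 : (Fintype.card F : ZMod s) = 0 ∨ (Fintype.card F : ZMod s) ^ 2 = 1
    · obtain ⟨y, hy, hyo⟩ := exists_rank_one (F := F) (r := 33) (by omega) (by omega) hs h0
      rw [hn33] at hy
      exact ⟨y, (sup_le (rootSubgroup_le_leviCore h33) (rootSubgroup_le_leviCore h14)) hy, hyo⟩
    · push_neg at h0
      have he := (hqs.resolve_left h0.1).resolve_left h0.2
      have : Fact s.Prime := ⟨hs⟩
      have hd := dvd_card_leviCore (F := F) hs h0.1 (fun e => h0.2 (by rw [e, one_pow])) he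
      obtain ⟨y, hy⟩ := exists_prime_orderOf_dvd_card' s hd
      exact ⟨y, y.2, by rw [Subgroup.orderOf_coe, hy]⟩
  obtain ⟨y, hy, hyo⟩ := hy
  exact ⟨x, hxG, y, leviCore_le_group hy, hxo, hyo, commute_leviCore hx hy⟩

end RankOne

end CfsgLib.Chev.F4Graph

namespace CfsgLib.Chev.F4Graph

theorem charP_two {F : Type*} [Field F] [Fintype F] {n : ℕ} (hn : 1 ≤ n)
    (hF : Fintype.card F = 2 ^ n) : CharP F 2 :=
  haveI : Fact (Nat.Prime 2) := ⟨Nat.prime_two⟩
  charP_of_card_eq_prime_pow hF

end CfsgLib.Chev.F4Graph
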