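import Cfsg.Agent.Lib.Chev.F4Graph.Weyl
import Cfsg.Agent.Lib.Classical.AltSection.EigenFusion

/-!
Regular families of commuting elements in type F4 give twisted tori.
-/

set_option autoImplicit false
set_option maxHeartbeats 1000000

namespace CfsgLib.Chev.F4Graph

open Cfsg.Lie Matrix Polynomial CfsgLib.Chev CfsgLib.Chev.Cert CfsgLib.Chev.GTorus
  CfsgLib.Chev.SylowTorus

/-- The matrices of the Weyl group. -/
def IsWMat (M : Matrix (Fin tabF4.l) (Fin tabF4.l) ℤ) : Prop :=
  ∃ w : List ℕ, WordOK tabF4 w ∧ (w.map (reflMat tabF4)).prod = M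

theorem IsWMat.exists_acts {M : Matrix (Fin tabF4.l) (Fin tabF4.l) ℤ} (hM : IsWMat M)
    (L : Type*) [Field L] : ∃ n : GL chevF4.Idx L, Acts chevF4 tabF4 n M := by
  obtain ⟨w, hw, rfl⟩ := hM
  refine ⟨nW chevF4 L w, fun r hr => ⟨rword tabF4 w r, certF4.rword_lt hw hr,
    certF4.Maps_nW hw hr, ?_⟩⟩
  induction w with
  | nil => simp [rword]
  | cons i w ih =>
    rw [rword_cons, carV_refl certF4 hw.head (certF4.rword_lt hw.tail hr), ih hw.tail, List.map_cons,
      List.prod_cons, Matrix.mulVec_mulVec]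

theorem IsWMat.finite_order {M : Matrix (Fin tabF4.l) (Fin tabF4.l) ℤ} (hM : IsWMat M) :
    ∃ N, 0 < N ∧ M ^ N = 1 := by
  obtain ⟨n, hn⟩ := hM.exists_acts (ZMod 2)
  exact acts_finite_order certF4 iF4_mul hn

theorem isWMat_of_acts {L : Type*} [Field L] {n : GL chevF4.Idx L}
    (hn : n ∈ chevF4.monomialSubgroup L) {M : Matrix (Fin tabF4.l) (Fin tabF4.l) ℤ}
    (hM : Acts chevF4 tabF4 n M) : IsWMat M := by
  obtain ⟨w, hw, hM'⟩ := exists_acts_word certF4 hn
  exact ⟨w, hw, acts_unique certF4 iF4_mul hM' hM⟩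

/-- The index of the split torus is prime to good primes. -/
theorem not_dvd_index {L : Type} [Field L] [Fintype L] {r : ℕ} (hr : r.Prime) (h5 : 5 ≤ r)
    (hQ : (Fintype.card L : ZMod r) = 1) :
    ¬ r ∣ (chevF4.diagonalSubgroup L).relIndex (chevF4.group L) :=
  not_dvd_relIndex certF4.diagonal_le_group hr Fintype.one_lt_card hQ (a := 24) (ds := [2, 6, 8, 12])
    (by rw [card_groupF4]; simp [mul_assoc]) (by rw [card_diagonalF4]; rfl)
    (fun d hd hrd => by
      have hle := Nat.le_of_dvd (by fin_cases hd <;> norm_num) hrd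
      fin_cases hd <;> interval_cases r <;>
        first | omega | (norm_num at hr; done) | (norm_num at hrd; done))

/-- The coordinates of a diagonal element of prime order. -/
theorem exists_coord {L : Type*} [Field L] {r : ℕ} [Fact r.Prime] {ω : Lˣ} (hω : orderOf ω = r)
    {z : GL chevF4.Idx L} (hz : z ∈ chevF4.diagonalSubgroup L) (hzr : z ^ r = 1) :
    ∃ X : Fin tabF4.l → ℤ,
      Cert.torusHom (D := chevF4) (T := tabF4) (fun i => ω ^ X i) = z := by
  obtain ⟨c, hc⟩ := certF4.range_torusHom.ge hz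
  have hcr : c ^ r = 1 := torusHom_injective certF4 iF4_mul (by rw [map_pow, hc, hzr, map_one])
  have hω' : IsPrimitiveRoot (ω : L) r := by
    rw [IsPrimitiveRoot.iff_orderOf, orderOf_units, hω]
  have hcX : ∀ i, ∃ X : ℤ, ω ^ X = c i := fun i => by
    obtain ⟨j, -, hj⟩ := hω'.eq_pow_of_pow_eq_one (ξ := (c i : L))
      (by rw [← Units.val_pow_eq_pow_val, show c i ^ r = 1 from congrFun hcr i, Units.val_one])
    exact ⟨j, Units.ext (by rw [zpow_natCast, Units.val_pow_eq_pow_val, hj])⟩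
  choose X hX using hcX
  exact ⟨X, by rw [show (fun i => ω ^ X i) = c from funext hX, hc]⟩

/-- Elements commuting with a regular family of diagonal elements are monomial. -/
theorem mem_monomial_of_commute_family {F : Type*} [Field F] {ι : Type*} {c : ι → ℕ → F}
    (hc : ∀ j, ∀ i < tabF4.l, c j i ≠ 0) {k : ι → GL chevF4.Idx F}
    (ek : ∀ j, (k j : Matrix chevF4.Idx chevF4.Idx F) = torus chevF4 (charOf tabF4 (c j)))
    (hne : ∀ r < tabF4.n, ∃ j, charOf tabF4 (c j) r ≠ 1) {g : GL chevF4.Idx F}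
    (hg : g ∈ chevF4.group F) (hcom : ∀ j, k j * g = g * k j) :
    g ∈ chevF4.monomialSubgroup F := by
  have h := certF4
  have hk : ∀ j, k j ∈ chevF4.diagonalSubgroup F := fun j =>
    h.mem_diagonalSubgroup_iff.2 ⟨c j, hc j, ek j⟩
  have key : ∀ j, ∀ r < tabF4.n, ∀ y : F,
      k j * X chevF4 r y * (k j)⁻¹ = X chevF4 r (charOf tabF4 (c j) r * y) := by
    intro j r hr y
    rw [mul_inv_eq_iff_eq_mul]
    refine Units.ext ?_
    rw [Units.val_mul, Units.val_mul, h.coe_X, h.coe_X, ek j,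
      h.torus_mul_x (h.isChar_charOf (hc j)) hr]
  have hU : ∀ x ∈ chevF4.posUnipotent F, (∀ j, k j * x * (k j)⁻¹ = x) → x = 1 := by
    intro x hx hfix
    obtain ⟨p, rfl⟩ := h.mem_posUnipotent_iff.1 hx
    refine List.prod_eq_one fun y hy => ?_
    obtain ⟨r, hr, rfl⟩ := List.mem_map.1 hy
    have h0 : p r = 0 := by
      obtain ⟨j, hj⟩ := hne r (mem_posList.1 hr).2
      have hconj : k j * prodX chevF4 (posList tabF4) p * (k j)⁻¹ =
          prodX chevF4 (posList tabF4) fun r => charOf tabF4 (c j) r * p r := by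
        show MulAut.conj (k j) (prodX chevF4 (posList tabF4) p) = _
        simp only [prodX, map_list_prod, List.map_map]
        exact congrArg List.prod
          (List.map_congr_left fun r hr => key j r (mem_posList.1 hr).2 (p r))
      have h1 := h.prodX_inj _ sortedLT_posList (fun r hr => mem_posList.1 hr) _ _
        (hconj.symm.trans (hfix j)) r hr
      by_contra hp
      exact hj (mul_right_cancel₀ hp (h1.trans (one_mul _).symm))
    rw [h0]; exact h.X_zero (mem_posList.1 hr).2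
  obtain ⟨b, hb, n, hn, u, hu, rfl⟩ := h.bruhat_exists hg
  obtain ⟨v, hv, t, ht, rfl⟩ := h.mem_borel_iff.1 hb
  have main : ∀ j, k j * (v * t) * (n * (k j)⁻¹ * n⁻¹) = v * t ∧ k j * u * (k j)⁻¹ = u := by
    intro j
    have hkn : n * (k j)⁻¹ * n⁻¹ ∈ chevF4.diagonalSubgroup F :=
      (Subgroup.mem_normalizer_iff.1 (h.monomial_le_normalizer_diagonal hn) (k j)⁻¹).1
        (inv_mem (hk j))
    have hu' : k j * u * (k j)⁻¹ ∈ cellUnipotent chevF4 F n := by
      obtain ⟨π, hπ, -⟩ := h.exists_perm hn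
      rw [h.cellUnipotent_eq fun r hr => ⟨(hπ r hr).1, (hπ r hr).2.1⟩] at hu ⊢
      exact (Subgroup.mem_normalizer_iff.1 (h.diagonal_le_normalizer_gen
        (fun r (hr : r ∈ posSet tabF4 \ {r | tabF4.half ≤ π r}) => hr.1.2) (hk j)) u).1 hu
    have hb' : k j * (v * t) * (n * (k j)⁻¹ * n⁻¹) ∈ chevF4.borelSubgroup F :=
      mul_mem (mul_mem (Subgroup.mem_sup_right (hk j)) hb) (Subgroup.mem_sup_right hkn)
    have e : k j * (v * t) * (n * (k j)⁻¹ * n⁻¹) * n * (k j * u * (k j)⁻¹) = v * t * n * u := by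
      calc _ = k j * (v * t * n * u) * (k j)⁻¹ := by group
        _ = _ := by rw [hcom j, mul_inv_cancel_right]
    exact (h.bruhat_unique hb' hb hn hn hu' hu e).2 rfl
  have hupos : u ∈ chevF4.posUnipotent F := by
    obtain ⟨π, hπ, -⟩ := h.exists_perm hn
    rw [h.cellUnipotent_eq fun r hr => ⟨(hπ r hr).1, (hπ r hr).2.1⟩] at hu
    exact h.gen_pos_le (fun r hr => hr.1) hu
  have hu1 : u = 1 := hU u hupos fun j => (main j).2
  have hv1 : v = 1 := by
    refine hU v hv fun j => ?_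
    have hvk : k j * v * (k j)⁻¹ ∈ chevF4.posUnipotent F :=
      (Subgroup.mem_normalizer_iff.1 (h.diagonal_le_normalizer_posUnipotent (hk j)) v).1 hv
    have hkn : n * (k j)⁻¹ * n⁻¹ ∈ chevF4.diagonalSubgroup F :=
      (Subgroup.mem_normalizer_iff.1 (h.monomial_le_normalizer_diagonal hn) (k j)⁻¹).1
        (inv_mem (hk j))
    have hx : v⁻¹ * (k j * v * (k j)⁻¹) ∈
        chevF4.posUnipotent F ⊓ chevF4.diagonalSubgroup F := by
      refine Subgroup.mem_inf.2 ⟨mul_mem (inv_mem hv) hvk, ?_⟩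
      have e3 : v⁻¹ * (k j * v * (k j)⁻¹) = t * (k j * t * (n * (k j)⁻¹ * n⁻¹))⁻¹ := by
        calc v⁻¹ * (k j * v * (k j)⁻¹) = v⁻¹ * (k j * (v * t) * (n * (k j)⁻¹ * n⁻¹)) *
            (k j * t * (n * (k j)⁻¹ * n⁻¹))⁻¹ := by group
          _ = _ := by rw [(main j).1]; group
      rw [e3]
      exact mul_mem ht (inv_mem (mul_mem (mul_mem (hk j) ht) hkn))
    rw [h.posUnipotent_inf_diagonal, Subgroup.mem_bot, inv_mul_eq_one] at hx
    exact hx.symm
  rw [hu1, hv1, mul_one, one_mul]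
  exact mul_mem (diagonal_le_monomial ht) hn

variable {F : Type*} [Field F] [Fintype F]

/-- A regular family of commuting elements of one prime order lies in a twisted torus. -/
theorem frob_torus {r d m : ℕ} (hr : r.Prime) (h5 : 5 ≤ r)
    (hd : orderOf (Fintype.card F : ZMod r) = d) (hd0 : 0 < d)
    (xs : Fin m → GL chevF4.Idx F) (hx : ∀ i, xs i ∈ chevF4.group F)
    (ho : ∀ i, orderOf (xs i) = r) (hcom : ∀ i j, Commute (xs i) (xs j))
    (hind : ∀ e : Fin m → ℕ, (List.ofFn fun i => xs i ^ e i).prod = 1 → ∀ i, r ∣ e i)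
    (hreg : ∀ (M : Matrix (Fin tabF4.l) (Fin tabF4.l) ℤ) (x : Fin m → Fin tabF4.l → ZMod r),
      IsWMat M → LinearIndependent (ZMod r) x →
      (∀ i, x i ᵥ* M.map (Int.castRingHom (ZMod r)) = (Fintype.card F : ZMod r) • x i) →
      ∀ s < tabF4.n, ∃ i, x i ⬝ᵥ (fun j => (carV tabF4 s j : ZMod r)) ≠ 0) :
    ∃ (M : Matrix (Fin tabF4.l) (Fin tabF4.l) ℤ) (x : Fin m → Fin tabF4.l → ZMod r),
      IsWMat M ∧ LinearIndependent (ZMod r) x ∧
      (∀ i, x i ᵥ* M.map (Int.castRingHom (ZMod r)) = (Fintype.card F : ZMod r) • x i) ∧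
      (∀ s : ℕ, s.Prime → (Fintype.card F : ZMod s) ^ d = 1 →
        (∃ c : Fin tabF4.l → ZMod s, c ≠ 0 ∧
          c ᵥ* M.map (Int.castRingHom (ZMod s)) = (Fintype.card F : ZMod s) • c) →
        ∃ a ∈ chevF4.group F, orderOf a = s ∧ ∀ i, Commute a (xs i)) ∧
      (∀ a ∈ chevF4.group F, ∀ s : ℕ, s.Prime → orderOf a = s → (∀ i, Commute a (xs i)) →
        (∀ Mz : Matrix (Fin tabF4.l) (Fin tabF4.l) ℤ, IsWMat Mz → Mz * M = M * Mz →
          (∀ i, x i ᵥ* Mz.map (Int.castRingHom (ZMod r)) = x i) → Mz = 1) →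
        (Fintype.card F : ZMod s) ^ d = 1 ∧ ∃ c : Fin tabF4.l → ZMod s, c ≠ 0 ∧
          c ᵥ* M.map (Int.castRingHom (ZMod s)) = (Fintype.card F : ZMod s) • c) := by
  classical
  set q := Fintype.card F with hq
  have : Fact r.Prime := ⟨hr⟩
  obtain ⟨p, hp⟩ := CharP.exists F
  obtain ⟨e', hpp, -⟩ := FiniteField.card F p
  have := Fact.mk hpp
  have : NeZero d := ⟨hd0.ne'⟩
  let L := FiniteField.Extension F p d
  let : Fintype L := Fintype.ofFinite L
  have hQq : Fintype.card L = q ^ d := by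
    rw [← Nat.card_eq_fintype_card, FiniteField.natCard_extension, Nat.card_eq_fintype_card]
  have hQ1 : (Fintype.card L : ZMod r) = 1 := by rw [hQq, Nat.cast_pow, ← hd, pow_orderOf_eq_one]
  have hroot : ∀ s : ℕ, (q : ZMod s) ^ d = 1 → s ∣ Nat.card Lˣ := fun s hs => by
    rw [Nat.card_units, Nat.card_eq_fintype_card, ← ZMod.natCast_eq_zero_iff,
      Nat.cast_sub Fintype.card_pos, hQq, Nat.cast_pow, hs, Nat.cast_one, sub_self]
  set f : F →+* L := algebraMap F L
  set σ : L →+* L := (FiniteField.frobeniusAlgHom F L).toRingHom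
  have hσ : ∀ x, σ x = x ^ q := fun x => rfl
  have hσsur : Function.Surjective σ := Finite.injective_iff_surjective.1 σ.injective
  have hσfix : ∀ x, σ x = x ↔ ∃ y, f y = x := fun x => mem_range_iff_pow f x
  have hσf : ∀ g : GL chevF4.Idx F, mapGL chevF4 σ (mapGL chevF4 f g) = mapGL chevF4 f g := fun g =>
    (mapGL_eq_self_iff chevF4 σ _).2 fun i j => (hσfix _).2 ⟨_, rfl⟩
  let τ : (Fin tabF4.l → Lˣ) →* GL chevF4.Idx L := Cert.torusHom (D := chevF4) (T := tabF4)
  have hσu : ∀ u : Lˣ, Units.map σ.toMonoidHom u = u ^ q := fun u => Units.ext (by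
    simp [hσ, Units.val_pow_eq_pow_val])
  have hστ : ∀ c, mapGL chevF4 σ (τ c) = τ (c ^ q) := fun c => by
    show mapGL chevF4 σ (Cert.torusHom (D := chevF4) (T := tabF4) c) = _
    rw [mapGL_torusHom]
    exact congrArg τ (funext fun i => hσu _)
  obtain ⟨ω, hω⟩ := exists_prime_orderOf_dvd_card' (G := Lˣ) r
    (hroot r (by rw [← hd, pow_orderOf_eq_one]))
  -- conjugate the family into the split torus
  set X' : Fin m → GL chevF4.Idx L := fun i => mapGL chevF4 f (xs i) with hX'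
  obtain ⟨g, hg, hgd⟩ := CfsgLib.Classical.AltSection.EigenFusion.exists_conj_diagonal certF4 X'
    (fun _ => r) (fun _ => hr) (fun i => certF4.map_mem_group f (hx i))
    (fun i => (orderOf_injective _ (mapGL_injective chevF4 f) (xs i)).trans (ho i))
    (fun i j => (hcom i j).map _) (fun _ => not_dvd_index hr h5 hQ1) Finset.univ
  let φ : GL chevF4.Idx F →* GL chevF4.Idx L :=
    (MulAut.conj g).toMonoidHom.comp (mapGL chevF4 f)
  have hφ : ∀ a, φ a = g * mapGL chevF4 f a * g⁻¹ := fun a => rfl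
  have hφinj : Function.Injective φ :=
    (MulAut.conj g).injective.comp (mapGL_injective chevF4 f)
  have hzd : ∀ i, φ (xs i) ∈ chevF4.diagonalSubgroup L := fun i => hgd i (Finset.mem_univ i)
  have hzr : ∀ i, φ (xs i) ^ r = 1 := fun i => by
    rw [← map_pow, ← ho i, pow_orderOf_eq_one, map_one]
  choose Xc hXc using fun i => exists_coord hω (hzd i) (hzr i)
  set x : Fin m → Fin tabF4.l → ZMod r := fun i j => (Xc i j : ZMod r) with hxdef
  have hxLI : LinearIndependent (ZMod r) x := by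
    rw [Fintype.linearIndependent_iff]
    intro cs hcs i
    have h1 : (List.ofFn fun i => xs i ^ (cs i).val).prod = 1 := by
      refine hφinj ?_
      rw [map_one, map_list_prod, List.map_ofFn]
      have e : (φ ∘ fun i => xs i ^ (cs i).val) =
          τ ∘ fun i => (fun j => ω ^ Xc i j) ^ (cs i).val := by
        funext i
        simp only [Function.comp_apply, map_pow]
        rw [← hXc i]
      rw [e, ← List.map_ofFn, ← map_list_prod, List.prod_ofFn]
      refine Eq.trans (congrArg τ (funext fun j => ?_)) (map_one τ)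
      simp only [Finset.prod_apply, Pi.pow_apply, Pi.one_apply, ← zpow_natCast,
        ← _root_.zpow_mul]
      have hz : ∏ i, ω ^ (Xc i j * ((cs i).val : ℤ)) = ω ^ ∑ i, Xc i j * ((cs i).val : ℤ) := by
        induction (Finset.univ : Finset (Fin m)) using Finset.cons_induction with
        | empty => simp
        | cons a s ha ih => rw [Finset.sum_cons, Finset.prod_cons, _root_.zpow_add, ih]
      rw [hz, ← orderOf_dvd_iff_zpow_eq_one, hω, ← ZMod.intCast_zmod_eq_zero_iff_dvd]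
      have h2 := congrFun hcs j
      simp only [Finset.sum_apply, Pi.smul_apply, smul_eq_mul, Pi.zero_apply] at h2
      push_cast
      rw [← h2]
      refine Finset.sum_congr rfl fun i _ => ?_
      simp [hxdef, mul_comm]
    have h3 := hind _ h1 i
    exact (ZMod.natCast_zmod_val (cs i)).symm.trans ((ZMod.natCast_eq_zero_iff _ _).2 h3)
  set y := mapGL chevF4 σ g * g⁻¹ with hy
  have hyG : y ∈ chevF4.group L := mul_mem (certF4.map_mem_group σ hg) (inv_mem hg)
  have hσφ : ∀ a, mapGL chevF4 σ (φ a) = y * φ a * y⁻¹ := fun a => by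
    rw [hφ, map_mul, map_mul, map_inv, hσf, hy]; group
  have hσz : ∀ i, mapGL chevF4 σ (φ (xs i)) = τ (fun j => ω ^ ((q : ℤ) * Xc i j)) := fun i => by
    rw [← hXc i]
    refine (hστ _).trans (congrArg τ (funext fun j => ?_))
    rw [Pi.pow_apply, mul_comm, _root_.zpow_mul, zpow_natCast]
  have haux : ∀ n ∈ chevF4.monomialSubgroup L,
      (∀ i, n * mapGL chevF4 σ (φ (xs i)) * n⁻¹ = φ (xs i)) →
      ∃ M, Acts chevF4 tabF4 n M ∧ IsWMat M ∧
        ∀ i, x i ᵥ* M.map (Int.castRingHom (ZMod r)) = (q : ZMod r) • x i := by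
    intro n hn hnk
    obtain ⟨M, hM⟩ := exists_acts certF4 hn
    refine ⟨M, hM, isWMat_of_acts hn hM, fun i => ?_⟩
    have h2 := vecMul_of_conj certF4 iF4_mul hω hn hM (Xc i) (q : ℤ)
      (by rw [← show _ = τ _ from hσz i, hnk, hXc])
    rwa [Int.cast_natCast] at h2
  obtain ⟨n₀, hn₀, hn₀c⟩ := diag_fusion certF4 hyG
  have hn₀z : ∀ i, n₀⁻¹ * mapGL chevF4 σ (φ (xs i)) * n₀⁻¹⁻¹ = φ (xs i) := fun i => by
    rw [← hn₀c _ (hzd i) _ (certF4.map_mem_diagonal σ (hzd i)) (hσφ _).symm]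
    group
  obtain ⟨M₀, -, hW₀, hx₀⟩ := haux n₀⁻¹ (inv_mem hn₀) hn₀z
  have hne : ∀ s < tabF4.n, ∃ i,
      charOf tabF4 (Cert.extC tabF4 fun j => ω ^ Xc i j) s ≠ 1 := by
    intro s hs
    obtain ⟨i, hi⟩ := hreg M₀ x hW₀ hxLI hx₀ s hs
    refine ⟨i, fun e1 => hi ?_⟩
    rw [charOf_zpow, Units.val_eq_one, ← orderOf_dvd_iff_zpow_eq_one, hω,
      ← ZMod.intCast_zmod_eq_zero_iff_dvd] at e1
    simpa [dotProduct, hxdef] using e1
  have hmono : ∀ z ∈ chevF4.group L, (∀ i, z * φ (xs i) = φ (xs i) * z) →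
      z ∈ chevF4.monomialSubgroup L := fun z hz e1 =>
    mem_monomial_of_commute_family (c := fun i => Cert.extC tabF4 fun j => ω ^ Xc i j)
      (fun i j _ => Cert.extC_ne_zero _ j) (k := fun i => φ (xs i))
      (fun i => by rw [← hXc i]; rfl) hne hz fun i => (e1 i).symm
  have hym : y ∈ chevF4.monomialSubgroup L := by
    have h1 : n₀⁻¹ * y ∈ chevF4.monomialSubgroup L :=
      hmono _ (mul_mem (inv_mem (certF4.monomial_le_group hn₀)) hyG) fun i => by
        calc n₀⁻¹ * y * φ (xs i) = n₀⁻¹ * (y * φ (xs i) * y⁻¹) * n₀⁻¹⁻¹ * (n₀⁻¹ * y) := by group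
          _ = φ (xs i) * (n₀⁻¹ * y) := by rw [← hσφ, hn₀z]
    have h2 := mul_mem hn₀ h1
    rwa [mul_inv_cancel_left] at h2
  obtain ⟨M, hM, hW, hxM⟩ := haux y⁻¹ (inv_mem hym) fun i => by rw [hσφ]; group
  have hker : ∀ a : Fin tabF4.l → Lˣ,
      a ^ q = matHom Mᵀ a ↔ y⁻¹ * mapGL chevF4 σ (τ a) * y⁻¹⁻¹ = τ a := by
    intro a
    rw [hστ]
    conv_rhs => rw [← conj_torusHom certF4 (inv_mem hym) hM a]
    rw [mul_left_inj, mul_right_inj, (torusHom_injective certF4 iF4_mul).eq_iff]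
  refine ⟨M, x, hW, hxLI, hxM, fun s hs hsd ⟨c, hc0, hcM⟩ => ?_, fun a ha s hs has hac hcent => ?_⟩
  · -- an element of the other order in the torus
    have : Fact s.Prime := ⟨hs⟩
    obtain ⟨ν, hν⟩ := exists_prime_orderOf_dvd_card' (G := Lˣ) s (hroot s hsd)
    set Cv : Fin tabF4.l → ℤ := fun j => ((c j).val : ℤ) with hCv
    set A : Fin tabF4.l → Lˣ := fun j => ν ^ Cv j with hA
    have hAq : A ^ q = matHom Mᵀ A := by
      rw [hA, matHom_pow]
      funext j
      rw [Pi.pow_apply, ← zpow_natCast, ← _root_.zpow_mul, ← mul_inv_eq_one, ← _root_.zpow_neg,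
        ← _root_.zpow_add, ← orderOf_dvd_iff_zpow_eq_one, hν, ← ZMod.intCast_zmod_eq_zero_iff_dvd]
      have h2 := congrFun hcM j
      have e : ((Mᵀ *ᵥ Cv) j : ZMod s) = (c ᵥ* M.map (Int.castRingHom (ZMod s))) j := by
        simp [Matrix.mulVec, Matrix.vecMul, dotProduct, hCv, mul_comm]
      push_cast
      rw [e, h2]
      simp [hCv, mul_comm]
    have hτA : τ A ∈ chevF4.diagonalSubgroup L := certF4.range_torusHom.le ⟨A, rfl⟩
    have h1 := (hker A).1 hAq
    have hw : g⁻¹ * τ A * g ∈ chevF4.group L ∧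
        mapGL chevF4 σ (g⁻¹ * τ A * g) = g⁻¹ * τ A * g := by
      refine ⟨mul_mem (mul_mem (inv_mem hg) (certF4.diagonal_le_group hτA)) hg, ?_⟩
      conv_rhs => rw [← h1]
      rw [map_mul, map_mul, map_inv, hy]
      group
    obtain ⟨a, ha, ea⟩ := (certF4.fixed_iff_range iF4_mul hσfix).1 hw
    have hφa : φ a = τ A := by rw [hφ, ea]; group
    refine ⟨a, ha, ?_, fun i => hφinj ?_⟩
    · rw [← orderOf_injective φ hφinj, hφa,
        orderOf_injective τ (torusHom_injective certF4 iF4_mul)]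
      refine orderOf_eq_prime (funext fun j => ?_) fun h0 => hc0 (funext fun j => ?_)
      · rw [Pi.pow_apply, hA, ← zpow_natCast, ← _root_.zpow_mul, Pi.one_apply, mul_comm,
          _root_.zpow_mul, zpow_natCast, zpow_natCast, orderOf_dvd_iff_pow_eq_one.1 hν.dvd, one_pow]
      · have h2 := congrFun h0 j
        rw [hA, Pi.one_apply, ← orderOf_dvd_iff_zpow_eq_one, hν,
          ← ZMod.intCast_zmod_eq_zero_iff_dvd] at h2
        simpa [hCv] using h2
    · rw [map_mul, map_mul, hφa]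
      exact certF4.diagonal_comm hτA (hzd i)
  · -- the centralizer
    have : Fact s.Prime := ⟨hs⟩
    set z := φ a with hz
    have hzg : z ∈ chevF4.group L :=
      mul_mem (mul_mem hg (certF4.map_mem_group f ha)) (inv_mem hg)
    have hzk : ∀ i, z * φ (xs i) = φ (xs i) * z := fun i => ((hac i).map φ).eq
    have hzm := hmono z hzg hzk
    obtain ⟨Mz, hMz⟩ := exists_acts certF4 hzm
    have hxz : ∀ i, x i ᵥ* Mz.map (Int.castRingHom (ZMod r)) = x i := fun i => by
      have := vecMul_of_conj certF4 iF4_mul hω hzm hMz (Xc i) 1 (by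
        simp only [one_mul]
        rw [hXc i, hzk i, mul_inv_cancel_right])
      simpa using this
    have hσz' : y⁻¹ * mapGL chevF4 σ z = z * y⁻¹ := by
      rw [hz, hσφ]; group
    have hcom' : Mz * M = M * Mz := by
      have h1 := acts_mul hMz hM
      rw [← hσz'] at h1
      exact acts_unique certF4 iF4_mul h1 (acts_mul hM (acts_map certF4 σ hσsur hMz))
    rw [hcent Mz (isWMat_of_acts hzm hMz) hcom' hxz] at hMz
    obtain ⟨c, hc⟩ := certF4.range_torusHom.ge (mem_diagonal_of_acts certF4 hzm hMz)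
    have hco : orderOf c = s := by
      rw [← orderOf_injective τ (torusHom_injective certF4 iF4_mul), show τ c = z from hc, hz,
        orderOf_injective φ hφinj, has]
    obtain ⟨j₀, hj₀⟩ : ∃ j, c j ≠ 1 := Function.ne_iff.1
      (show c ≠ 1 from fun e => hs.ne_one (by rw [← hco, e, orderOf_one]))
    have hν : orderOf (c j₀) = s := orderOf_eq_prime
      (by rw [← Pi.pow_apply, ← hco, pow_orderOf_eq_one, Pi.one_apply]) hj₀
    have hqd : (q : ZMod s) ^ d = 1 := by
      have h1 : s ∣ Nat.card Lˣ := hν ▸ orderOf_dvd_natCard _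
      rwa [Nat.card_units, Nat.card_eq_fintype_card, ← ZMod.natCast_eq_zero_iff,
        Nat.cast_sub Fintype.card_pos, hQq, Nat.cast_pow, Nat.cast_one, sub_eq_zero] at h1
    refine ⟨hqd, ?_⟩
    obtain ⟨Cv, hCv⟩ := exists_coord hν (certF4.range_torusHom.le ⟨c, rfl⟩)
      (by rw [← map_pow, ← hco, pow_orderOf_eq_one, map_one])
    have hCc := torusHom_injective certF4 iF4_mul hCv
    refine ⟨fun j => (Cv j : ZMod s), fun h0 => ?_, ?_⟩
    · refine hj₀ ?_
      rw [← congrFun hCc j₀, ← orderOf_dvd_iff_zpow_eq_one, hν,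
        ← ZMod.intCast_zmod_eq_zero_iff_dvd]
      exact congrFun h0 j₀
    · have hσz'' : y⁻¹ * mapGL chevF4 σ (τ c) * y⁻¹⁻¹ = τ c := by
        rw [show τ c = z from hc, hσz', mul_inv_cancel_right]
      have := vecMul_of_conj certF4 iF4_mul hν (inv_mem hym) hM Cv (q : ℤ) (by
        rw [hCv]
        refine Eq.trans ?_ hσz''
        rw [hστ]
        refine congrArg (fun t => y⁻¹ * t * y⁻¹⁻¹) (congrArg τ (funext fun j => ?_))
        rw [Pi.pow_apply, mul_comm, _root_.zpow_mul, zpow_natCast]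
        exact congrArg (· ^ q) (congrFun hCc j))
      rwa [Int.cast_natCast] at this

end CfsgLib.Chev.F4Graph
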