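import Cfsg.Agent.Lib.Chev.GTorus.Types
import Cfsg.Agent.Lib.Chev.SylowTorus.Fusion
import Cfsg.Agent.Lib.Chev.SylowTorus.Charpoly
import Cfsg.Agent.Lib.Chev.SylowTorus.Bound
import Cfsg.Agent.Lib.Chev.WeylF4
import Cfsg.Agent.Lib.Chev.WeylCount

/-!
The Weyl group of type F4: no element has eigenvalues of two different orders among three, four and
six; independent roots stay independent modulo every prime above three.
-/

set_option autoImplicit false
set_option maxRecDepth 100000
set_option maxHeartbeats 1000000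

namespace CfsgLib.Chev.F4Graph

open Matrix Polynomial CfsgLib.Chev CfsgLib.Chev.Cert CfsgLib.Chev.GTorus CfsgLib.Chev.SylowTorus

/-- A matrix of four rows and four columns by its entries. -/
structure M4 where
  a00 : ℤ
  a01 : ℤ
  a02 : ℤ
  a03 : ℤ
  a10 : ℤ
  a11 : ℤ
  a12 : ℤ
  a13 : ℤ
  a20 : ℤ
  a21 : ℤ
  a22 : ℤ
  a23 : ℤ
  a30 : ℤ
  a31 : ℤ
  a32 : ℤ
  a33 : ℤ
deriving DecidableEq

namespace M4

/-- The matrix. -/
def mat (A : M4) : Matrix (Fin 4) (Fin 4) ℤ :=
  !![A.a00, A.a01, A.a02, A.a03; A.a10, A.a11, A.a12, A.a13; A.a20, A.a21, A.a22, A.a23;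
    A.a30, A.a31, A.a32, A.a33]

/-- The identity. -/
def one : M4 := ⟨1, 0, 0, 0, 0, 1, 0, 0, 0, 0, 1, 0, 0, 0, 0, 1⟩

/-- The sum. -/
def add : M4 → M4 → M4
  | ⟨a, b, c, d, e, f, g, h, i, j, k, l, m, n, o, p⟩,
    ⟨a', b', c', d', e', f', g', h', i', j', k', l', m', n', o', p'⟩ =>
    ⟨a + a', b + b', c + c', d + d', e + e', f + f', g + g', h + h', i + i', j + j', k + k', l + l',
      m + m', n + n', o + o', p + p'⟩

/-- The negative. -/
def neg : M4 → M4
  | ⟨a, b, c, d, e, f, g, h, i, j, k, l, m, n, o, p⟩ =>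
    ⟨-a, -b, -c, -d, -e, -f, -g, -h, -i, -j, -k, -l, -m, -n, -o, -p⟩

/-- The product. -/
def mul : M4 → M4 → M4
  | ⟨a, b, c, d, e, f, g, h, i, j, k, l, m, n, o, p⟩,
    ⟨a', b', c', d', e', f', g', h', i', j', k', l', m', n', o', p'⟩ =>
    ⟨a * a' + b * e' + c * i' + d * m', a * b' + b * f' + c * j' + d * n',
      a * c' + b * g' + c * k' + d * o', a * d' + b * h' + c * l' + d * p',
      e * a' + f * e' + g * i' + h * m', e * b' + f * f' + g * j' + h * n',
      e * c' + f * g' + g * k' + h * o', e * d' + f * h' + g * l' + h * p',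
      i * a' + j * e' + k * i' + l * m', i * b' + j * f' + k * j' + l * n',
      i * c' + j * g' + k * k' + l * o', i * d' + j * h' + k * l' + l * p',
      m * a' + n * e' + o * i' + p * m', m * b' + n * f' + o * j' + p * n',
      m * c' + n * g' + o * k' + p * o', m * d' + n * h' + o * l' + p * p'⟩

/-- The trace. -/
def tr : M4 → ℤ
  | ⟨a, _, _, _, _, f, _, _, _, _, k, _, _, _, _, p⟩ => a + f + k + p

/-- The zero test. -/
def isZero : M4 → Bool
  | ⟨a, b, c, d, e, f, g, h, i, j, k, l, m, n, o, p⟩ =>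
    decide (a = 0) && decide (b = 0) && decide (c = 0) && decide (d = 0) && decide (e = 0) &&
    decide (f = 0) && decide (g = 0) && decide (h = 0) && decide (i = 0) && decide (j = 0) &&
    decide (k = 0) && decide (l = 0) && decide (m = 0) && decide (n = 0) && decide (o = 0) &&
    decide (p = 0)

theorem mat_mul (A B : M4) : (A.mul B).mat = A.mat * B.mat := by
  obtain ⟨a, b, c, d, e, f, g, h, i, j, k, l, m, n, o, p⟩ := A
  obtain ⟨a', b', c', d', e', f', g', h', i', j', k', l', m', n', o', p'⟩ := B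
  ext x y
  fin_cases x <;> fin_cases y <;> simp [mul, mat, Matrix.mul_apply, Fin.sum_univ_four]

theorem mat_add (A B : M4) : (A.add B).mat = A.mat + B.mat := by
  obtain ⟨a, b, c, d, e, f, g, h, i, j, k, l, m, n, o, p⟩ := A
  obtain ⟨a', b', c', d', e', f', g', h', i', j', k', l', m', n', o', p'⟩ := B
  ext x y
  fin_cases x <;> fin_cases y <;> simp [add, mat]

theorem mat_neg (A : M4) : A.neg.mat = -A.mat := by
  obtain ⟨a, b, c, d, e, f, g, h, i, j, k, l, m, n, o, p⟩ := A
  ext x y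
  fin_cases x <;> fin_cases y <;> simp [neg, mat]

theorem mat_one : one.mat = 1 := by decide +kernel

theorem tr_eq (A : M4) : A.tr = A.mat.trace := by
  obtain ⟨a, b, c, d, e, f, g, h, i, j, k, l, m, n, o, p⟩ := A
  simp [tr, mat, Matrix.trace, Matrix.diag, Fin.sum_univ_four]

theorem isZero_of_mat {A : M4} (h : A.mat = 0) : A.isZero = true := by
  obtain ⟨a, b, c, d, e, f, g, h', i, j, k, l, m, n, o, p⟩ := A
  have e00 := congrFun₂ h 0 0
  have e01 := congrFun₂ h 0 1
  have e02 := congrFun₂ h 0 2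
  have e03 := congrFun₂ h 0 3
  have e10 := congrFun₂ h 1 0
  have e11 := congrFun₂ h 1 1
  have e12 := congrFun₂ h 1 2
  have e13 := congrFun₂ h 1 3
  have e20 := congrFun₂ h 2 0
  have e21 := congrFun₂ h 2 1
  have e22 := congrFun₂ h 2 2
  have e23 := congrFun₂ h 2 3
  have e30 := congrFun₂ h 3 0
  have e31 := congrFun₂ h 3 1
  have e32 := congrFun₂ h 3 2
  have e33 := congrFun₂ h 3 3
  simp [mat] at e00 e01 e02 e03 e10 e11 e12 e13 e20 e21 e22 e23 e30 e31 e32 e33
  simp [isZero, e00, e01, e02, e03, e10, e11, e12, e13, e20, e21, e22, e23, e30, e31, e32, e33]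

end M4

/-- The four simple reflections. -/
def rfl4 : ℕ → M4
  | 0 => ⟨-1, 0, 0, 0, 1, 1, 0, 0, 0, 0, 1, 0, 0, 0, 0, 1⟩
  | 1 => ⟨1, 1, 0, 0, 0, -1, 0, 0, 0, 1, 1, 0, 0, 0, 0, 1⟩
  | 2 => ⟨1, 0, 0, 0, 0, 1, 2, 0, 0, 0, -1, 0, 0, 0, 1, 1⟩
  | _ => ⟨1, 0, 0, 0, 0, 1, 0, 0, 0, 0, 1, 1, 0, 0, 0, -1⟩

theorem rfl4_eq_aux : ∀ p : Fin 4 × Fin tabF4.l × Fin tabF4.l,
    (rfl4 p.1).mat (Fin.cast (show tabF4.l = 4 from rfl) p.2.1)
      (Fin.cast (show tabF4.l = 4 from rfl) p.2.2) = reflMat tabF4 p.1 p.2.1 p.2.2 := by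
  decide +kernel

theorem rfl4_eq (i : ℕ) (hi : i < 4) :
    ((rfl4 i).mat : Matrix (Fin tabF4.l) (Fin tabF4.l) ℤ) = reflMat tabF4 i :=
  Matrix.ext fun j k => rfl4_eq_aux (⟨i, hi⟩, j, k)

/-- The matrix of a word. -/
def word4 : List ℕ → M4
  | [] => M4.one
  | i :: w => (rfl4 i).mul (word4 w)

theorem word4_eq : ∀ {w : List ℕ}, WordOK tabF4 w →
    ((word4 w).mat : Matrix (Fin tabF4.l) (Fin tabF4.l) ℤ) = (w.map (reflMat tabF4)).prod
  | [], _ => M4.mat_one
  | i :: w, hw => by
    rw [List.map_cons, List.prod_cons, ← word4_eq hw.tail, ← rfl4_eq i hw.head]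
    exact M4.mat_mul _ _

/-- All elements, level by level. -/
def elts4 : ℕ → List M4
  | 0 => [M4.one]
  | k + 1 =>
    let L := elts4 k
    ((levelsF4[k]?.map Level.reps).getD []).flatMap fun d =>
      let D := word4 d
      L.map fun M => D.mul M

theorem word4_append : ∀ d u : List ℕ, ((word4 (d ++ u)).mat) = (word4 d).mat * (word4 u).mat
  | [], u => by simp [word4, M4.mat_one]
  | i :: d, u => by
    rw [List.cons_append, word4, word4, M4.mat_mul, M4.mat_mul, word4_append d u, Matrix.mul_assoc]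

theorem mem_elts4 : ∀ k, ∀ w ∈ transversal levelsF4 k, ∃ M ∈ elts4 k, M.mat = (word4 w).mat
  | 0, w, hw => ⟨M4.one, by simp [elts4], by simp [transversal] at hw; subst hw; rfl⟩
  | k + 1, w, hw => by
    simp only [transversal, List.mem_flatMap, List.mem_map] at hw
    obtain ⟨d, hd, u, hu, rfl⟩ := hw
    obtain ⟨M, hM, e⟩ := mem_elts4 k u hu
    refine ⟨(word4 d).mul M, ?_, by rw [M4.mat_mul, e, word4_append]⟩
    simp only [elts4, List.mem_flatMap, List.mem_map]
    exact ⟨d, hd, M, hM, rfl⟩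

/-- The test on one element. -/
def good (M : M4) : Bool :=
  let P := M.mul M
  let A := (P.add M).add M4.one
  let B := P.add M4.one
  let E := (P.add M.neg).add M4.one
  let t := M.tr
  !(decide (t = -1) && (A.mul B).isZero) && !(decide (t = 0) && (A.mul E).isZero) &&
    !(decide (t = 1) && (B.mul E).isZero)

theorem good_elts : (elts4 4).all good = true := by decide +kernel

theorem prod_eq_of_sameAct {v w : List ℕ} (hv : WordOK tabF4 v) (hw : WordOK tabF4 w)
    (h : SameAct tabF4 v w) : (v.map (reflMat tabF4)).prod = (w.map (reflMat tabF4)).prod := by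
  have key : ∀ {u : List ℕ}, WordOK tabF4 u → ∀ r < tabF4.n,
      carV tabF4 (rword tabF4 u r) = (u.map (reflMat tabF4)).prod *ᵥ carV tabF4 r := by
    intro u
    induction u with
    | nil => intro _ r _; simp [rword]
    | cons i u ih =>
      intro hu r hr
      rw [rword_cons, carV_refl certF4 hu.head (certF4.rword_lt hu.tail hr), ih hu.tail r hr, List.map_cons,
        List.prod_cons, Matrix.mulVec_mulVec]
  have e : (v.map (reflMat tabF4)).prod * (cartanT tabF4)ᵀ =
      (w.map (reflMat tabF4)).prod * (cartanT tabF4)ᵀ := by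
    ext i j
    have hj := certF4.simple_lt j.2
    have h1 := congrFun ((key hv _ hj).symm.trans ((congrArg (carV tabF4) (h _ hj)).trans (key hw _ hj))) i
    exact h1
  have e2 : (cartanT tabF4)ᵀ * (matOf tabF4.l iF4)ᵀ = 1 := by
    rw [← Matrix.transpose_mul, iF4_mul, Matrix.transpose_one]
  have := congrArg (fun X => X * (matOf tabF4.l iF4)ᵀ) e
  simpa only [Matrix.mul_assoc, e2, Matrix.mul_one] using this

/-- No element has charpoly a product of two different ones among the cyclotomics 3, 4 and 6. -/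
theorem charpoly_ne {w : List ℕ} (hw : WordOK tabF4 w) {k l : ℕ}
    (hkl : (k = 3 ∧ l = 4) ∨ (k = 3 ∧ l = 6) ∨ (k = 4 ∧ l = 6)) :
    (w.map (reflMat tabF4)).prod.charpoly ≠ cyclotomic k ℤ * cyclotomic l ℤ := by
  intro hc
  obtain ⟨w', hw', hs⟩ := certF4.exists_transversal chkLevelsF4 tabF4.l le_rfl w hw
  rw [prod_eq_of_sameAct hw (certF4.transversal_ok chkLevelsF4 le_rfl hw') hs,
    ← word4_eq (certF4.transversal_ok chkLevelsF4 le_rfl hw')] at hc
  obtain ⟨M, hM, e⟩ := mem_elts4 4 w' hw'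
  rw [← e] at hc
  have hc' : M.mat.charpoly = cyclotomic k ℤ * cyclotomic l ℤ := hc
  have hg := List.all_eq_true.1 good_elts M hM
  have hCH := Matrix.aeval_self_charpoly M.mat
  rw [hc', map_mul] at hCH
  have htr : M.mat.trace = -(cyclotomic k ℤ * cyclotomic l ℤ).coeff 3 := by
    rw [← hc', Matrix.trace_eq_neg_charpoly_coeff]
    rfl
  simp only [good, Bool.and_eq_true, Bool.not_eq_true', Bool.and_eq_false_iff, decide_eq_false_iff_not] at hg
  obtain ⟨⟨hA, hB⟩, hE⟩ := hg
  rcases hkl with ⟨rfl, rfl⟩ | ⟨rfl, rfl⟩ | ⟨rfl, rfl⟩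
  · rcases hA with h | h
    · refine h ?_
      rw [M4.tr_eq, htr, cyclotomic_three, cyclotomic_four,
        show (Polynomial.X ^ 2 + Polynomial.X + 1 : ℤ[X]) * (Polynomial.X ^ 2 + 1) =
          Polynomial.X ^ 4 + Polynomial.X ^ 3 + Polynomial.C 2 * Polynomial.X ^ 2 + Polynomial.X + 1 by
            rw [map_ofNat]; ring]
      simp [coeff_one, coeff_X]
    · refine Bool.false_ne_true (h.symm.trans (M4.isZero_of_mat ?_))
      rw [cyclotomic_three, cyclotomic_four] at hCH
      simp only [map_add, map_pow, aeval_X, map_one] at hCH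
      simp only [M4.mat_mul, M4.mat_add, M4.mat_one]
      rw [← hCH, pow_two]
  · rcases hB with h | h
    · refine h ?_
      rw [M4.tr_eq, htr, cyclotomic_three, cyclotomic_six,
        show (Polynomial.X ^ 2 + Polynomial.X + 1 : ℤ[X]) * (Polynomial.X ^ 2 - Polynomial.X + 1) =
          Polynomial.X ^ 4 + Polynomial.X ^ 2 + 1 by ring]
      simp [coeff_one]
    · refine Bool.false_ne_true (h.symm.trans (M4.isZero_of_mat ?_))
      rw [cyclotomic_three, cyclotomic_six] at hCH
      simp only [map_add, map_sub, map_pow, aeval_X, map_one] at hCH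
      simp only [M4.mat_mul, M4.mat_add, M4.mat_neg, M4.mat_one, ← sub_eq_add_neg]
      rw [← hCH, pow_two]
  · rcases hE with h | h
    · refine h ?_
      rw [M4.tr_eq, htr, cyclotomic_four, cyclotomic_six,
        show (Polynomial.X ^ 2 + 1 : ℤ[X]) * (Polynomial.X ^ 2 - Polynomial.X + 1) =
          Polynomial.X ^ 4 - Polynomial.X ^ 3 + Polynomial.C 2 * Polynomial.X ^ 2 - Polynomial.X + 1 by
            rw [map_ofNat]; ring]
      simp [coeff_one, coeff_X]
    · refine Bool.false_ne_true (h.symm.trans (M4.isZero_of_mat ?_))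
      rw [cyclotomic_four, cyclotomic_six] at hCH
      simp only [map_add, map_sub, map_pow, aeval_X, map_one] at hCH
      simp only [M4.mat_mul, M4.mat_add, M4.mat_neg, M4.mat_one, ← sub_eq_add_neg]
      rw [← hCH, pow_two]

/-- The minors of two root coordinate vectors. -/
noncomputable def minor4 (r s : ℕ) (i j : Fin tabF4.l) : ℤ :=
  tabF4.car i r * tabF4.car j s - tabF4.car j r * tabF4.car i s

theorem minors_check : ∀ r < tabF4.n, ∀ s < tabF4.n,
    (∀ i j : Fin tabF4.l, minor4 r s i j = 0) ∨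
      ∃ i j : Fin tabF4.l, minor4 r s i j = 1 ∨ minor4 r s i j = -1 ∨
        minor4 r s i j = 2 ∨ minor4 r s i j = -2 := by
  decide +kernel

end CfsgLib.Chev.F4Graph
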